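import Mathlib
import Cfsg.Agent.Lib.Twisted.Ree.G2Torus

/-!
Two generators for the small Ree groups.
-/

set_option autoImplicit false

namespace Cfsg.Agent.Lib.TwistGen.Ree

open Cfsg.Lie Cfsg.Agent.Lib.Chev Cfsg.Agent.Lib.Twisted Cfsg.Agent.Lib.Twisted.ReeG

variable {K : Type*} [Field K]

local notation "X" => xG (K := K) checked_G2

theorem addSubgroup_top [Finite K] (S : AddSubgroup K) {a s : K} (hs : s ≠ 0) (hsS : s ∈ S)
    (hmul : ∀ x ∈ S, a * x ∈ S) (ha : Nat.card K ≤ 2 * orderOf a + 1) : S = ⊤ := by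
  have : Fintype K := Fintype.ofFinite K
  classical
  have hpow : ∀ k : ℕ, a ^ k * s ∈ S := by
    intro k
    induction k with
    | zero => simpa using hsS
    | succ k ih => rw [pow_succ', mul_assoc]; exact hmul _ ih
  have hpos : 0 < orderOf a := by
    have : 1 < Nat.card K := Finite.one_lt_card
    omega
  have hane : a ≠ 0 := fun e => by
    subst e
    rcases (orderOf_pos_iff.1 hpos).exists_pow_eq_one with ⟨n, hn, e1⟩
    rw [zero_pow hn.ne'] at e1
    exact zero_ne_one e1
  let f : Option (Fin (orderOf a)) → S := fun o => o.elim 0 fun k => ⟨a ^ (k : ℕ) * s, hpow k⟩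
  have hf : Function.Injective f := by
    rintro (_ | i) (_ | j) e
    · rfl
    · exact absurd (congrArg Subtype.val e).symm (mul_ne_zero (pow_ne_zero _ hane) hs)
    · exact absurd (congrArg Subtype.val e) (mul_ne_zero (pow_ne_zero _ hane) hs)
    · exact congrArg some (Fin.ext (pow_injOn_Iio_orderOf i.2 j.2
        (mul_right_cancel₀ hs (congrArg Subtype.val e))))
  have hle := Nat.card_le_card_of_injective f hf
  rw [Nat.card_eq_fintype_card (α := Option _), Fintype.card_option, Fintype.card_fin] at hle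
  obtain ⟨d, hd⟩ := S.card_addSubgroup_dvd_card
  refine AddSubgroup.eq_top_of_card_eq S ?_
  rcases d with _ | _ | d
  · have : 1 < Nat.card K := Finite.one_lt_card
    simp at hd
  · simpa using hd.symm
  · nlinarith

variable [CharP K 3]

theorem move_10_6 (u p : K) : X 10 u * X 6 p = X 6 p * (X 10 u * X 11 (-(p * u))) := by
  rw [xG_comm checked_G2 (r := 6) (s := 10) (by decide) (by decide) (T := [(11, 1, 1, 1)]) (by decide +kernel)
    (by decide) (by decide) p u]
  simp [wordG, mul_assoc]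

theorem move_8_7 (r q : K) : X 8 r * X 7 q = X 7 q * (X 8 r * X 9 (-(q * r))) := by
  rw [xG_comm checked_G2 (r := 7) (s := 8) (by decide) (by decide)
    (T := [(9, -2, 1, 1), (10, -3, 2, 1), (11, 3, 1, 2)]) (by decide +kernel) (by decide) (by decide) q r]
  simp only [wordG, List.map_cons, List.map_nil, List.prod_cons, List.prod_nil, mul_one, Int.cast_neg,
    Int.cast_ofNat, pow_one, three_eq_zero, neg_zero, zero_mul, xG_zero checked_G2 (show 10 < chevG2.nroots by decide),
    xG_zero checked_G2 (show 11 < chevG2.nroots by decide), mul_assoc]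
  congr 3
  linear_combination (q * r) * (three_eq_zero (K := K))

/-- Products of sorted words. -/
theorem srt_mul (p q r s u v p' q' r' s' u' v' : K) :
    srt p q r s u v * srt p' q' r' s' u' v' =
      srt (p + p') (q + q') (r + r' - p' * q) (s + s' - p' * q ^ 2 - q' * (r - p' * q)) (u + u' + p' * q ^ 3)
        (v + v' + p' ^ 2 * q ^ 3 - p' * u) := by
  have n6 : (6 : ℕ) < chevG2.nroots := by decide
  have n7 : (7 : ℕ) < chevG2.nroots := by decide
  have n8 : (8 : ℕ) < chevG2.nroots := by decide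
  have n9 : (9 : ℕ) < chevG2.nroots := by decide
  have n10 : (10 : ℕ) < chevG2.nroots := by decide
  have n11 : (11 : ℕ) < chevG2.nroots := by decide
  have add : ∀ {i : ℕ}, i < chevG2.nroots → ∀ (a b : K) (z : ↥(chevG2.group K)),
      X i a * (X i b * z) = X i (a + b) * z := fun hi a b z => by rw [← mul_assoc, xG_add _ hi]
  have sw : ∀ {i j : ℕ}, i < chevG2.nroots → j < chevG2.nroots → cTerms G2.cert i j = [] → j ≠ i →
      j ≠ ng chevG2 i → ∀ (a b : K) (z : ↥(chevG2.group K)), X i a * (X j b * z) = X j b * (X i a * z) :=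
    fun hi hj hT h1 h2 a b z => by
      rw [← mul_assoc, (commute_of_nil hi hj hT h1 h2 a b).eq, mul_assoc]
  have s8_6 := sw n8 n6 (by decide +kernel) (by decide) (by decide)
  have s9_6 := sw n9 n6 (by decide +kernel) (by decide) (by decide)
  have s11_6 := sw n11 n6 (by decide +kernel) (by decide) (by decide)
  have s10_7 := sw n10 n7 (by decide +kernel) (by decide) (by decide)
  have s11_7 := sw n11 n7 (by decide +kernel) (by decide) (by decide)
  have s10_8 := sw n10 n8 (by decide +kernel) (by decide) (by decide)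
  have s11_8 := sw n11 n8 (by decide +kernel) (by decide) (by decide)
  have s10_9 := sw n10 n9 (by decide +kernel) (by decide) (by decide)
  have s11_9 := sw n11 n9 (by decide +kernel) (by decide) (by decide)
  have s11_10 := sw n11 n10 (by decide +kernel) (by decide) (by decide)
  have s9_8 : ∀ (a b : K) (z : ↥(chevG2.group K)), X 9 a * (X 8 b * z) = X 8 b * (X 9 a * z) := fun a b z => by
    rw [← mul_assoc, ← (commute_8_9 b a).eq, mul_assoc]
  have s9_7 : ∀ (a b : K) (z : ↥(chevG2.group K)), X 9 a * (X 7 b * z) = X 7 b * (X 9 a * z) := fun a b z => by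
    rw [← mul_assoc, (xG_commute checked_G2 n9 n7 (T := [(10, -3, 1, 1)]) (by decide +kernel) (by decide)
      (by decide) (fun c hc => by
        rw [List.mem_singleton] at hc
        subst hc
        exact ⟨by decide, by simpa using three_eq_zero⟩) a b).eq, mul_assoc]
  have m106 : ∀ (a b : K) (z : ↥(chevG2.group K)),
      X 10 a * (X 6 b * z) = X 6 b * (X 10 a * (X 11 (-(b * a)) * z)) := fun a b z => by
    rw [← mul_assoc, move_10_6]; simp only [mul_assoc]
  have m87 : ∀ (a b : K) (z : ↥(chevG2.group K)),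
      X 8 a * (X 7 b * z) = X 7 b * (X 8 a * (X 9 (-(b * a)) * z)) := fun a b z => by
    rw [← mul_assoc, move_8_7]; simp only [mul_assoc]
  have m76 : ∀ (a b : K) (z : ↥(chevG2.group K)),
      X 7 a * (X 6 b * z) = X 6 b * (X 7 a * (X 8 (-(b * a)) * (X 9 (-(b * a ^ 2)) *
        (X 10 (b * a ^ 3) * (X 11 (b ^ 2 * a ^ 3) * z))))) := fun a b z => by
    rw [← mul_assoc, swap_6_7]; simp only [mul_assoc]
  simp only [srt_eq, mul_assoc]
  rw [s11_6, m106, s9_6, s8_6, m76, add n6]
  congr 1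
  simp only [s11_7, s10_7, s9_7, m87, add n7]
  congr 1
  simp only [s11_8, s10_8, s9_8, add n8, s11_9, s10_9, add n9, s11_10, add n10, xG_add _ n8, xG_add _ n9,
    xG_add _ n10, xG_add _ n11, add n11]
  congr 2
  · ring
  congr 2
  · ring
  congr 2
  · ring
  · ring

/-- Products of two elements of the root group, up to the last coordinate. -/
theorem reeU_mul {e : ℕ} {m : ℕ} (hm : e = 3 ^ m) (he : ∀ x : K, x ^ (3 * (e * e)) = x)
    (t u v t' u' v' : K) :
    reeU e t u v * reeU e t' u' v' =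
      reeU e (t + t') (u + u' - t * (t' ^ e) ^ 3)
        (v + v' - t ^ 2 * (t' ^ e) ^ 3 - t' * u + t * t' * (t' ^ e) ^ 3) := by
  have : Fact (Nat.Prime 3) := ⟨Nat.prime_three⟩
  have hadd : ∀ a b : K, (a + b) ^ e = a ^ e + b ^ e := fun a b => by rw [hm, add_pow_char_pow]
  have hsub : ∀ a b : K, (a - b) ^ e = a ^ e - b ^ e := fun a b => by rw [hm, sub_pow_char_pow]
  have h2 : ∀ x : K, ((x ^ e) ^ 3) ^ e = x := fun x => (pow_e_mul he x).2.1
  have h3 : ∀ a b : K, (a + b) ^ 3 = a ^ 3 + b ^ 3 := fun a b => add_pow_char a b 3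
  rw [reeU_eq, reeU_eq, reeU_eq, srt_mul]
  simp only [hadd, hsub, mul_pow, h3, h2]
  have hp : (t ^ 2) ^ e = (t ^ e) ^ 2 := pow_right_comm _ _ _
  simp only [hp]
  congr 1 <;> first
    | ring1
    | linear_combination -(t * t' * (t ^ e) ^ 3 + t * t' * (t' ^ e) ^ 3) * (three_eq_zero (K := K))

variable [Fintype K]

/-- The small Ree group is generated by a torus element and `x n`. -/
theorem pair_ree {m : ℕ} (hm : 1 ≤ m) (hK : Fintype.card K = 3 ^ (2 * m + 1)) :
    ∃ a b : ↥(twistedG2 K (3 ^ m)), Subgroup.closure ({a, b} : Set ↥(twistedG2 K (3 ^ m))) = ⊤ := by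
  classical
  have : Fact (Nat.Prime 3) := ⟨Nat.prime_three⟩
  set e := 3 ^ m with hem
  have he : ∀ x : K, x ^ (3 * (e * e)) = x := pow_theta hK
  obtain ⟨σ, hσ⟩ := exists_sigma hK
  obtain ⟨k, hk⟩ := card_units_eq hK
  obtain ⟨c, hcgen⟩ := IsCyclic.exists_monoid_generator (α := Kˣ)
  have hQ : Nat.card K = 3 ^ (2 * m + 1) := by rw [Nat.card_eq_fintype_card, hK]
  have hord : orderOf c = Nat.card K - 1 := by
    rw [orderOf_eq_card_of_forall_mem_powers hcgen, Nat.card_units]
  have h27 : 27 ≤ Nat.card K := by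
    rw [hQ]; calc 27 = 3 ^ 3 := by norm_num
      _ ≤ _ := Nat.pow_le_pow_right (by norm_num) (by omega)
  have hcu : ∀ x : Kˣ, x ^ (3 * (e * e)) = x := fun x => Units.ext (by simp [he])
  -- the scalars
  set l6 : Kˣ := c ^ 2 * ((c ^ e) ^ 3)⁻¹ with hl6
  set mu : Kˣ := (c ^ e) ^ 3 * c⁻¹ with hmu
  have hpow2 : ∀ n, c ^ n = 1 → Nat.card K - 1 ∣ n := fun n hn => hord ▸ orderOf_dvd_of_pow_eq_one hn
  have hmuord : Nat.card K ≤ 2 * orderOf (mu : K) + 1 := by
    rw [orderOf_units]
    have h1 : mu ^ orderOf mu = 1 := pow_orderOf_eq_one _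
    set n := orderOf mu
    have hy : ((c ^ n) ^ e) ^ 3 = c ^ n := by
      rw [hmu, mul_pow, inv_pow, mul_inv_eq_one] at h1
      refine Eq.trans ?_ h1
      rw [← pow_mul, ← pow_mul, ← pow_mul, ← pow_mul]
      congr 1; ring
    have hy2 : (c ^ n) = (c ^ n) ^ e :=
      calc c ^ n = (c ^ n) ^ (3 * (e * e)) := (hcu _).symm
        _ = (((c ^ n) ^ e) ^ 3) ^ e := by
          rw [← pow_mul (c ^ n) e 3, ← pow_mul (c ^ n)]
          congr 1; ring
        _ = (c ^ n) ^ e := by rw [hy]
    rw [← hy2] at hy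
    have : c ^ (2 * n) = 1 := by
      have : (c ^ n) ^ 2 = 1 := by
        apply mul_right_cancel (b := c ^ n)
        rw [one_mul, ← pow_succ]; exact hy
      rwa [← pow_mul, mul_comm] at this
    have hd := hpow2 _ this
    have hn0 : 0 < n := orderOf_pos _
    have := Nat.le_of_dvd (by omega) hd
    omega
  have hl6ord : Nat.card K ≤ 2 * orderOf (l6 : K) + 1 := by
    rw [orderOf_units]
    have h1 : l6 ^ orderOf l6 = 1 := pow_orderOf_eq_one _
    set n := orderOf l6
    have hy : (c ^ n) ^ 2 = ((c ^ n) ^ e) ^ 3 := by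
      rw [hl6, mul_pow, inv_pow, mul_inv_eq_one] at h1
      rw [← pow_mul, ← pow_mul, ← pow_mul, mul_comm n 2, pow_mul, h1, ← pow_mul, ← pow_mul]
      congr 1; ring
    have hy2 : ((c ^ n) ^ e) ^ 2 = c ^ n := by
      conv_rhs => rw [← hcu (c ^ n)]
      rw [← pow_mul, mul_comm e 2, pow_mul, hy, ← pow_mul, ← pow_mul, ← pow_mul, ← pow_mul]
      congr 1; ring
    have : c ^ n = 1 := by
      have h6 : (((c ^ n) ^ e) ^ 3) ^ 2 = (c ^ n) ^ 3 := by rw [← pow_mul, mul_comm 3 2, pow_mul, hy2]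
      rw [← hy, ← pow_mul] at h6
      apply mul_right_cancel (b := (c ^ n) ^ 3)
      rw [one_mul, ← pow_succ']; exact h6
    have hd := hpow2 _ this
    have := Nat.le_of_dvd (orderOf_pos _) hd
    omega
  -- torus action
  set A := (ct e c : GL chevG2.Idx K) with hA
  have hconj : ∀ t u v : K, ∃ v' : K,
      A * (reeU e t u v : GL chevG2.Idx K) * A⁻¹ = (reeU e ((l6 : K) * t) ((mu : K) * u) v' : GL chevG2.Idx K) := by
    intro t u v
    have hfc : A ∈ fixSub σ := mem_fixSub.2 (ct_fixed hσ he c)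
    have hfu : (reeU e t u v : GL chevG2.Idx K) ∈ fixSub σ := mem_fixSub.2 (reeU_fixed' hσ he t u v)
    have hx : ∀ r, r < chevG2.nroots → ∀ a : K,
        ct e c * X r a * (ct e c)⁻¹ = X r ((torusFun chevG2 (pair (c ^ e) c) r : K) * a) := by
      intro r hr a
      refine Subtype.ext ?_
      simp only [Subgroup.coe_mul, Subgroup.coe_inv, ct, coe_torusG, xG, dif_pos hr]
      exact checked_G2.conj_x hr a
    have hd : A ∈ chevG2.diagonalSubgroup K := by
      rw [rooted_G2.diagonalSubgroup_eq]; exact ⟨_, rfl⟩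
    obtain ⟨t', u', v', e'⟩ := fixed_unipotent_mem hσ he
      ((Subgroup.mem_normalizer_iff.1 (rooted_G2.diagonal_le_normalizer_posUnipotent hd) _).1
        (reeU_mem_pos e t u v)) (mul_mem (mul_mem hfc hfu) (inv_mem hfc))
    set χ : ℕ → K := fun r => (torusFun chevG2 (pair (c ^ e) c) r : K)
    have e2 : ct e c * srt t (t ^ e) (u ^ e) (v ^ e) (u + t * (t ^ e) ^ 3) (v + t ^ 2 * (t ^ e) ^ 3) * (ct e c)⁻¹ =
        srt (χ 6 * t) (χ 7 * t ^ e) (χ 8 * u ^ e) (χ 9 * v ^ e) (χ 10 * (u + t * (t ^ e) ^ 3))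
          (χ 11 * (v + t ^ 2 * (t ^ e) ^ 3)) := by
      simp only [srt_eq, χ, ← hx _ (show 6 < chevG2.nroots by decide), ← hx _ (show 7 < chevG2.nroots by decide),
        ← hx _ (show 8 < chevG2.nroots by decide), ← hx _ (show 9 < chevG2.nroots by decide),
        ← hx _ (show 10 < chevG2.nroots by decide), ← hx _ (show 11 < chevG2.nroots by decide)]
      group
    rw [← reeU_eq] at e2
    have e3 : ct e c * reeU e t u v * (ct e c)⁻¹ = reeU e t' u' v' := Subtype.ext (by
      simp only [Subgroup.coe_mul, Subgroup.coe_inv]; exact e')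
    rw [e3, reeU_eq] at e2
    obtain ⟨ep, -, er, -, -, -⟩ := srt_injective e2
    have hc6 : χ 6 = (l6 : K) := by
      simp only [χ, torusFun, show chevG2.rank = 2 from rfl, Finset.prod_range_succ, Finset.prod_range_zero, one_mul,
        pair_zero, pair_one, show chevG2.cartan 0 6 = -3 by decide +kernel, show chevG2.cartan 1 6 = 2 by decide +kernel,
        hl6]
      norm_cast
      rw [zpow_negSucc, mul_comm]
    have hc8 : χ 8 = ((c * (c ^ e)⁻¹ : Kˣ) : K) := by
      simp only [χ, torusFun, show chevG2.rank = 2 from rfl, Finset.prod_range_succ, Finset.prod_range_zero, one_mul,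
        pair_zero, pair_one, show chevG2.cartan 0 8 = -1 by decide +kernel, show chevG2.cartan 1 8 = 1 by decide +kernel]
      rw [zpow_one, zpow_neg_one, mul_comm]
    refine ⟨v', ?_⟩
    rw [e', ep, hc6]
    congr 3
    have h3 := fun x => (pow_e_mul he x).1
    rw [← h3 u', er, hc8, mul_pow, h3, ← Units.val_pow_eq_pow_val]
    congr 2
    rw [hmu, mul_pow, inv_pow, show (c ^ e) ^ (3 * e) = c by
      rw [← pow_mul, show e * (3 * e) = 3 * (e * e) by ring, hcu], ← pow_mul, mul_comm 3 e]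
  set x := (reeU e (1 : K) 0 0 : GL chevG2.Idx K)
  set n := (n0 (K := K) : GL chevG2.Idx K)
  have hAG : A ∈ twistedG2 K e := ct_mem hσ he hk c
  have hbG : x * n ∈ twistedG2 K e := mul_mem (reeU_mem _ _ _) n0_mem
  refine exists_pair_ree hAG hbG fun L hA' hb => ?_
  have mulU : ∀ t u v t' u' v' : K, ∃ w : K, (reeU e t u v : GL chevG2.Idx K) * (reeU e t' u' v' : GL chevG2.Idx K) =
      (reeU e (t + t') (u + u' - t * (t' ^ e) ^ 3) w : GL chevG2.Idx K) := fun t u v t' u' v' =>
    ⟨_, congrArg Subtype.val (reeU_mul hem he t u v t' u' v')⟩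
  have mul_eq : ∀ t u v t' u' v' : K, (reeU e t u v : GL chevG2.Idx K) * (reeU e t' u' v' : GL chevG2.Idx K) =
      (reeU e (t + t') (u + u' - t * (t' ^ e) ^ 3)
        (v + v' - t ^ 2 * (t' ^ e) ^ 3 - t' * u + t * t' * (t' ^ e) ^ 3) : GL chevG2.Idx K) :=
    fun t u v t' u' v' => congrArg Subtype.val (reeU_mul hem he t u v t' u' v')
  have he0 : e ≠ 0 := by rw [hem]; positivity
  have hU0 : (reeU e (0 : K) 0 0 : GL chevG2.Idx K) = 1 := by
    have h := mul_eq 0 0 0 0 0 0
    simp [he0] at h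
    simpa using h
  have hinv : ∀ t u v : K, ∃ u' v' : K,
      (reeU e t u v : GL chevG2.Idx K)⁻¹ = (reeU e (-t) u' v' : GL chevG2.Idx K) := by
    intro t u v
    refine ⟨-u + t * ((-t) ^ e) ^ 3,
      -(v - t ^ 2 * ((-t) ^ e) ^ 3 - (-t) * u + t * (-t) * ((-t) ^ e) ^ 3), ?_⟩
    rw [inv_eq_iff_mul_eq_one, mul_eq, ← hU0]
    congr 2 <;> ring
  -- the quotient of two elements with the same first coordinate
  have hdiff : ∀ T U V U' V' : K, (reeU e T U V : GL chevG2.Idx K) ∈ L →
      (reeU e T U' V' : GL chevG2.Idx K) ∈ L →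
      (reeU e 0 (U - U') (V - V' + T * (U - U')) : GL chevG2.Idx K) ∈ L := by
    intro T U V U' V' h1 h2
    have := mul_mem h1 (inv_mem h2)
    convert this using 1
    rw [eq_mul_inv_iff_mul_eq, mul_eq]
    congr 2 <;> ring
  -- the first coordinate
  have hconj' : x * (A⁻¹ * x⁻¹) ∈ L := by
    have := mul_mem (mul_mem hb hA') (inv_mem hb)
    rwa [show x * n * A * (x * n)⁻¹ = x * ((n * A * n⁻¹) * x⁻¹) by group,
      show n * A * n⁻¹ = A⁻¹ by
        have := congrArg Subtype.val (n0_conj_ct e c)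
        rw [ct_inv] at this
        simpa using this] at this
  have hfirst : ∀ t : K, ∃ u v : K, (reeU e t u v : GL chevG2.Idx K) ∈ L := by
    let S : AddSubgroup K :=
      { carrier := {t | ∃ u v : K, (reeU e t u v : GL chevG2.Idx K) ∈ L}
        zero_mem' := ⟨0, 0, by rw [hU0]; exact one_mem L⟩
        add_mem' := by
          rintro a b ⟨u, v, h1⟩ ⟨u', v', h2⟩
          obtain ⟨w, hw⟩ := mulU a u v b u' v'
          exact ⟨_, w, by rw [← hw]; exact mul_mem h1 h2⟩
        neg_mem' := by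
          rintro a ⟨u, v, h1⟩
          obtain ⟨u', v', hi⟩ := hinv a u v
          exact ⟨u', v', by rw [← hi]; exact inv_mem h1⟩ }
    have hne : (l6 : K) - 1 ≠ 0 := by
      refine sub_ne_zero.2 fun e1 => ?_
      rw [e1, orderOf_one] at hl6ord
      omega
    have hs : (l6 : K) - 1 ∈ S := by
      have hz := mul_mem hA' hconj'
      obtain ⟨v1, h1⟩ := hconj 1 0 0
      obtain ⟨u2, v2, h2⟩ := hinv 1 0 0
      obtain ⟨w, hw⟩ := mulU ((l6 : K) * 1) ((mu : K) * 0) v1 (-1) u2 v2
      rw [show A * (x * (A⁻¹ * x⁻¹)) = (A * x * A⁻¹) * x⁻¹ by group, h1, h2, hw, mul_one, ← sub_eq_add_neg] at hz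
      exact ⟨_, _, hz⟩
    have hS : S = ⊤ := addSubgroup_top S hne hs (fun t ⟨u, v, h1⟩ => by
      obtain ⟨w, hw⟩ := hconj t u v
      exact ⟨_, w, by rw [← hw]; exact mul_mem (mul_mem hA' h1) (inv_mem hA')⟩) hl6ord
    intro t
    show t ∈ S
    rw [hS]; trivial
  -- the second coordinate
  have hsecond : ∀ u : K, ∃ v : K, (reeU e 0 u v : GL chevG2.Idx K) ∈ L := by
    let S : AddSubgroup K :=
      { carrier := {u | ∃ v : K, (reeU e 0 u v : GL chevG2.Idx K) ∈ L}
        zero_mem' := ⟨0, by rw [hU0]; exact one_mem L⟩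
        add_mem' := by
          rintro a b ⟨v, h1⟩ ⟨v', h2⟩
          obtain ⟨w, hw⟩ := mulU 0 a v 0 b v'
          rw [zero_mul, sub_zero, add_zero] at hw
          exact ⟨w, by rw [← hw]; exact mul_mem h1 h2⟩
        neg_mem' := by
          rintro a ⟨v, h1⟩
          obtain ⟨u', v', hi⟩ := hinv 0 a v
          have h2 := mul_mem (inv_mem h1) h1
          rw [inv_mul_cancel] at h2
          have := hdiff 0 0 0 a v (by rw [hU0]; exact h2) h1
          exact ⟨_, by simpa using this⟩ }
    have hne : (c : K) - ((c : K) ^ e) ^ 3 ≠ 0 := by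
      intro h0
      have h1 : mu = 1 := by
        rw [hmu, mul_inv_eq_one]
        exact Units.ext (by push_cast; exact (sub_eq_zero.1 h0).symm)
      rw [h1, Units.val_one, orderOf_one] at hmuord
      omega
    have hs : (c : K) - ((c : K) ^ e) ^ 3 ∈ S := by
      obtain ⟨u, v, h1⟩ := hfirst 1
      obtain ⟨u', v', h2⟩ := hfirst (c : K)
      have hzz := mul_mem h1 h2
      have hzz' := mul_mem h2 h1
      rw [mul_eq] at hzz hzz'
      rw [add_comm (c : K) 1] at hzz'
      have := hdiff _ _ _ _ _ hzz hzz'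
      have e1 : u + u' - 1 * ((c : K) ^ e) ^ 3 - (u' + u - (c : K) * ((1 : K) ^ e) ^ 3) =
          (c : K) - ((c : K) ^ e) ^ 3 := by rw [one_pow, one_pow]; ring
      rw [e1] at this
      exact ⟨_, this⟩
    have hS : S = ⊤ := addSubgroup_top S hne hs (fun u ⟨v, h1⟩ => by
      obtain ⟨w, hw⟩ := hconj 0 u v
      rw [mul_zero] at hw
      exact ⟨w, by rw [← hw]; exact mul_mem (mul_mem hA' h1) (inv_mem hA')⟩) hmuord
    intro u
    show u ∈ S
    rw [hS]; trivial
  have hthird : ∀ w : K, (reeU e 0 0 w : GL chevG2.Idx K) ∈ L := by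
    intro w
    obtain ⟨u, v, h1⟩ := hfirst 1
    obtain ⟨v', h2⟩ := hsecond w
    have hzz := mul_mem h1 h2
    have hzz' := mul_mem h2 h1
    rw [mul_eq] at hzz hzz'
    rw [add_comm (0 : K) 1] at hzz'
    have := hdiff _ _ _ _ _ hzz hzz'
    simp only [zero_pow he0, one_pow, mul_one, mul_zero, zero_mul, sub_zero, add_zero, zero_mul, one_mul,
      zero_pow two_ne_zero, zero_pow three_ne_zero] at this
    convert this using 4 <;> ring
  have hall : ∀ t u v : K, (reeU e t u v : GL chevG2.Idx K) ∈ L := by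
    intro t u v
    obtain ⟨u1, v1, h1⟩ := hfirst t
    obtain ⟨v2, h2⟩ := hsecond (u - u1)
    have h3 := mul_mem h2 h1
    rw [mul_eq] at h3
    have h4 := mul_mem (hthird (v - (v2 + v1 - 0 - t * (u - u1) + 0))) (by simpa using h3)
    rw [mul_eq] at h4
    simp only [zero_pow two_ne_zero, zero_mul, mul_zero, add_zero, sub_zero, zero_add] at h4
    convert h4 using 4 <;> ring
  have hn : n ∈ L := by
    have := mul_mem (inv_mem (hall 1 0 0)) hb
    rwa [inv_mul_cancel_left] at this
  refine (Subgroup.closure_le L).2 ?_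
  rintro g ⟨w, ⟨t, u, v, rfl | rfl⟩, hg⟩
  · rw [exists_wordG checked_G2 hg]
    exact hall t u v
  · rw [exists_wordG checked_G2 hg]
    show (reeV e t u v : GL chevG2.Idx K) ∈ L
    rw [reeV_eq_conj]
    simp only [Subgroup.coe_mul, Subgroup.coe_inv]
    exact mul_mem (mul_mem hn (hall t u v)) (inv_mem hn)
where
  exists_pair_ree {G : Type _} [Group G] {H : Subgroup G} {a b : G} (ha : a ∈ H) (hb : b ∈ H)
      (hle : ∀ L : Subgroup G, a ∈ L → b ∈ L → H ≤ L) :
      ∃ x y : ↥H, Subgroup.closure ({x, y} : Set ↥H) = ⊤ := by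
    refine ⟨⟨a, ha⟩, ⟨b, hb⟩, Subgroup.map_injective H.subtype_injective ?_⟩
    rw [MonoidHom.map_closure, Set.image_pair, ← MonoidHom.range_eq_map, Subgroup.range_subtype]
    refine le_antisymm ?_ (hle _ (Subgroup.subset_closure (Or.inl rfl)) (Subgroup.subset_closure (Or.inr rfl)))
    rw [Subgroup.closure_le]
    rintro g (rfl | rfl)
    exacts [ha, hb]

end Cfsg.Agent.Lib.TwistGen.Ree
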