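import Cfsg.Agent.Lib.TwistGen.Seed

/-!
Two generators for the triality and the twisted E6 groups.
-/

set_option autoImplicit false

namespace Cfsg.Agent.Lib.TwistGen

open Cfsg.Lie Cfsg.Agent.Lib.Chev Cfsg.Agent.Lib.ChevGeneration.TwoGen

variable {K : Type*} [Field K]

theorem exists_qFrobenius [Fintype K] {q n : ℕ} (hn : n ≠ 0) (hq : IsPrimePow q)
    (hK : Fintype.card K = q ^ n) :
    ∃ φ : K →+* K, (∀ x, φ x = x ^ q) ∧ ∀ x, φ^[n] x = x := by
  obtain ⟨p, k, hp, hk, rfl⟩ := hq
  have hp' : p.Prime := hp.nat_prime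
  haveI : Fact p.Prime := ⟨hp'⟩
  haveI : CharP K p := charP_of_card_eq_prime_pow (f := k * n) (by rw [hK, pow_mul])
  refine ⟨iterateFrobenius K p k, fun x => iterateFrobenius_def p k x, fun x => ?_⟩
  have : ∀ (j : ℕ) (y : K), (iterateFrobenius K p k)^[j] y = y ^ (p ^ k) ^ j := by
    intro j
    induction j with
    | zero => intro y; simp
    | succ j ih => intro y; rw [Function.iterate_succ_apply', ih, iterateFrobenius_def, ← pow_mul, ← pow_succ]
  rw [this, ← hK, FiniteField.pow_card]

theorem exists_sumPow_ne_zero [Fintype K] {q : ℕ} (hq : 1 < q) (φ : K →+* K) (hφ : ∀ x, φ x = x ^ q) {n : ℕ}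
    (hn : n = 2 ∨ n = 3) (hK : Fintype.card K = q ^ n) : ∃ t : K, sumPow φ n t ≠ 0 := by
  by_contra hne
  push Not at hne
  open Polynomial in
  rcases hn with rfl | rfl
  · let P : K[X] := X ^ q + X
    have hdeg : P.natDegree = q := by
      simp only [P]; rw [natDegree_add_eq_left_of_natDegree_lt] <;> simp [hq]
    have h0 : P = 0 := eq_zero_of_natDegree_lt_card_of_eval_eq_zero P Function.injective_id
      (fun t => by
        have := hne t
        simp only [sumPow, hφ, add_zero] at this
        simp only [P, id, eval_add, eval_pow, eval_X]; linear_combination this)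
      (by rw [hdeg, hK]; nlinarith)
    rw [h0, natDegree_zero] at hdeg
    omega
  · let P : K[X] := (X ^ q ^ 2 + X ^ q) + X
    have hdeg : P.natDegree = q ^ 2 := by
      simp only [P]
      rw [natDegree_add_eq_left_of_natDegree_lt, natDegree_add_eq_left_of_natDegree_lt]
      · simp
      · simp; nlinarith
      · rw [natDegree_add_eq_left_of_natDegree_lt] <;> simp <;> nlinarith
    have h0 : P = 0 := eq_zero_of_natDegree_lt_card_of_eval_eq_zero P Function.injective_id
      (fun t => by
        have := hne t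
        simp only [sumPow, hφ, add_zero] at this
        simp only [P, id, eval_add, eval_pow, eval_X]
        rw [pow_two, pow_mul]; linear_combination this)
      (by rw [hdeg, hK]; nlinarith [Nat.one_le_pow 2 q (by omega)])
    rw [h0, natDegree_zero] at hdeg
    nlinarith

theorem sumPow_fixed (φ : K →+* K) (t : K) {n : ℕ} (hn : n = 2 ∨ n = 3) (hφn : φ^[n] t = t) :
    φ (sumPow φ n t) = sumPow φ n t := by
  rcases hn with rfl | rfl <;>
    simp only [Function.iterate_succ_apply, Function.iterate_zero_apply] at hφn <;>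
    simp only [sumPow, map_add, map_zero, hφn] <;> abel

theorem exists_pair_ab {G : Type*} [Group G] {H : Subgroup G} {a b : G} (ha : a ∈ H) (hb : b ∈ H)
    (hle : ∀ L : Subgroup G, a ∈ L → b ∈ L → H ≤ L) :
    ∃ x y : ↥H, Subgroup.closure ({x, y} : Set ↥H) = ⊤ :=
  exists_pair ha hb (hle _ (Subgroup.subset_closure (Or.inl rfl)) (Subgroup.subset_closure (Or.inr rfl)))

theorem mem_genSubgroup {D : ChevalleyDatum} {C : Cert} (h : Checked D C) {S : Set (List (ℕ × K))}
    {w : List (ℕ × K)} (hw : w ∈ S) : wordU h w ∈ D.genSubgroup K S :=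
  Subgroup.subset_closure ⟨w, hw, coe_wordU h w⟩

theorem genSubgroup_le {D : ChevalleyDatum} {C : Cert} (h : Checked D C) {S : Set (List (ℕ × K))}
    {L : Subgroup (GL D.Idx K)} (hL : ∀ w ∈ S, wordU h w ∈ L) : D.genSubgroup K S ≤ L := by
  refine (Subgroup.closure_le L).2 ?_
  rintro g ⟨w, hw, e⟩
  have : g = wordU h w := Units.ext (by rw [e, coe_wordU h w])
  rw [this]
  exact hL w hw

theorem pair_d4 [Fintype K] {q : ℕ} (hq : IsPrimePow q) (hK : Fintype.card K = q ^ 3) :
    ∃ a b : ↥(twistedD4 K q), Subgroup.closure ({a, b} : Set ↥(twistedD4 K q)) = ⊤ := by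
  classical
  obtain ⟨φ, hφ, hφn⟩ := exists_qFrobenius (by norm_num) hq hK
  have h : Rooted chevD4 D4.cert := ⟨checked_D4, descent_D4⟩
  have hc := h.toChecked
  have hq2 : 2 ≤ q := hq.two_le
  obtain ⟨c, hcgen⟩ := IsCyclic.exists_monoid_generator (α := Kˣ)
  have hord : orderOf c = q ^ 3 - 1 := by
    rw [orderOf_eq_card_of_forall_mem_powers hcgen, Nat.card_units, Nat.card_eq_fintype_card, hK]
  have h8 : 8 ≤ q ^ 3 := by have := Nat.pow_le_pow_left hq2 3; simpa using this
  have hφ' : ∀ x : Kˣ, Units.map (φ : K →* K) x = x ^ q := fun x => Units.ext (by simp [hφ])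
  have hgen : ∀ w ∈ d4Words K q, wordU hc w ∈ twistedD4 K q := fun w hw => mem_genSubgroup hc hw
  have hpos : ∀ t, oEl hc φ (posL [18, 13, 12]) t ∈ twistedD4 K q := fun t => by
    have := hgen [(18, t), (13, t ^ q), (12, t ^ (q ^ 2))]
      (Or.inr ⟨t, (18, 13, 12), by simp [d4p1, d4p3, d4p4], rfl⟩)
    convert this using 1
    simp [oEl, posL, wordU, hφ, pow_two, pow_mul]
  have hneg : ∀ t, oEl hc φ (negL chevD4 [18, 13, 12]) t ∈ twistedD4 K q := fun t => by
    have := hgen [(5, t), (10, t ^ q), (11, t ^ (q ^ 2))]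
      (Or.inr ⟨t, (5, 10, 11), by simp [d4m1, d4m3, d4m4], rfl⟩)
    convert this using 1
    rw [show negL chevD4 [18, 13, 12] = posL [5, 10, 11] by decide +kernel]
    simp [oEl, posL, wordU, hφ, pow_two, pow_mul]
  have hlong : ∀ r ∈ [d4p2, d4m2], ∀ t : K, t ^ q = t → xU hc K r t ∈ twistedD4 K q := fun r hr t ht => by
    simpa [wordU] using hgen [(r, t)] (Or.inl ⟨t, ht, r, hr, rfl⟩)
  have hnA : ∀ t, nA hc φ [18, 13, 12] t ∈ twistedD4 K q := fun t => by
    rw [nA_eq h φ (by decide +kernel)]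
    exact (twistedD4 K q).mul_mem ((twistedD4 K q).mul_mem (hpos _) (hneg _)) (hpos _)
  have hone : ((1 : K) ^ q = 1) ∧ ((-1 : K) ^ q = -1) := ⟨one_pow q, by rw [← hφ, map_neg, map_one]⟩
  have hnW : nW hc K [1, 0, 2, 3] ∈ twistedD4 K q := by
    have e : nW hc K [1, 0, 2, 3] = nU hc K 1 * nA hc φ [18, 13, 12] 1 := by
      simp only [nW, nA, List.map_cons, List.map_nil, List.prod_cons, List.prod_nil, map_one, mul_one]
      rw [nU_eq hc (show 0 < chevD4.rank by decide), nU_eq hc (show 2 < chevD4.rank by decide),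
        nU_eq hc (show 3 < chevD4.rank by decide), show chevD4.simple 0 = 18 by decide +kernel,
        show chevD4.simple 2 = 13 by decide +kernel, show chevD4.simple 3 = 12 by decide +kernel]
      simp [wordU, ChevalleyDatum.nWord, hc.neg_eq (show 18 < chevD4.nroots by decide),
        hc.neg_eq (show 13 < chevD4.nroots by decide), hc.neg_eq (show 12 < chevD4.nroots by decide), mul_assoc]
    rw [e, nU_eq hc (show 1 < chevD4.rank by decide), show chevD4.simple 1 = d4p2 by decide +kernel,
      show ng chevD4 d4p2 = d4m2 by decide +kernel]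
    exact (twistedD4 K q).mul_mem ((twistedD4 K q).mul_mem ((twistedD4 K q).mul_mem (hlong _ (by simp) _ hone.1) (hlong _ (by simp) _ hone.2))
      (hlong _ (by simp) _ hone.1)) (hnA 1)
  have htor : tor hc φ [18, 13, 12] c ∈ twistedD4 K q := by
    rw [tor_eq h φ (by decide +kernel)]
    exact (twistedD4 K q).mul_mem (hnA _) (hnA _)
  refine exists_pair_ab htor ((twistedD4 K q).mul_mem (hpos 1) hnW) fun L hh hb => ?_
  have e18 : [(chevD4.pairing 18 18 : ℤ), chevD4.pairing 13 18, chevD4.pairing 12 18,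
      chevD4.pairing 18 13, chevD4.pairing 13 13, chevD4.pairing 12 13,
      chevD4.pairing 18 12, chevD4.pairing 13 12, chevD4.pairing 12 12] = [2, 0, 0, 0, 2, 0, 0, 0, 2] := by
    decide +kernel
  have eW : [18, 13, 12].map (sig D4.cert [1, 0, 2, 3]) = [4, 7, 8] := by decide +kernel
  have e4 : [(chevD4.pairing 4 18 : ℤ), chevD4.pairing 7 18, chevD4.pairing 8 18,
      chevD4.pairing 4 13, chevD4.pairing 7 13, chevD4.pairing 8 13,
      chevD4.pairing 4 12, chevD4.pairing 7 12, chevD4.pairing 8 12] = [-1, 1, 1, 1, -1, 1, 1, 1, -1] := by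
    decide +kernel
  simp only [List.cons.injEq, and_true] at e18 e4
  have hq3 : c ^ (q * q * q) = c := by
    refine Units.ext ?_
    rw [Units.val_pow_eq_pow_val, show q * q * q = q ^ 3 by ring, ← hK, FiniteField.pow_card]
  set a0 : Kˣ := c ^ 2 with ha0
  set a1 : Kˣ := c⁻¹ * c ^ q * c ^ (q * q) with ha1
  have hit : ∀ (i : ℕ) (x : Kˣ), φ^[i] (x : K) = (((Units.map φ.toMonoidHom)^[i] x : Kˣ) : K) := by
    intro i
    induction i with
    | zero => intro x; rfl
    | succ i ih => intro x; rw [Function.iterate_succ_apply', ih, Function.iterate_succ_apply']; rfl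
  have h0 : ∀ i, ∀ hi : i < (posL [18, 13, 12]).length,
      (chi chevD4 φ [18, 13, 12] c ((posL [18, 13, 12])[i]).1 : K) = φ^[i] (a0 : K) := by
    intro i hi
    rw [hit]
    congr 1
    simp only [posL, List.map_cons, List.map_nil, List.length_cons, List.length_nil] at hi
    interval_cases i <;>
      simp [posL, chi, hφ', e18, ha0, mul_pow, ← pow_mul, mul_comm, mul_left_comm, -Units.val_pow_eq_pow_val] <;>
      norm_cast <;> simp [← pow_mul, mul_comm, mul_left_comm]
  have h1 : ∀ i, ∀ hi : i < (posL [18, 13, 12]).length,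
      (chi chevD4 φ ([18, 13, 12].map (sig D4.cert [1, 0, 2, 3])) c ((posL [18, 13, 12])[i]).1 : K) =
        φ^[i] (a1 : K) := by
    intro i hi
    rw [hit]
    congr 1
    rw [eW]
    simp only [posL, List.map_cons, List.map_nil, List.length_cons, List.length_nil] at hi
    have hq4 : c ^ (q * (q * (q * q))) = c ^ q := by
      rw [show q * (q * (q * q)) = q * q * q * q by ring, pow_mul, hq3]
    interval_cases i <;>
      simp [posL, chi, hφ', e4, ha1, mul_pow, inv_pow, ← pow_mul, hq3] <;>
      first | ac_rfl | (rw [show c ^ (q * q * (q * q)) = c ^ q by rw [show q * q * (q * q) = q * q * q * q by ring, pow_mul, hq3]]; ac_rfl)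
  have hinj := pow_injOn_Iio_orderOf (x := c)
  have hqq : q * q + q < q ^ 3 - 1 := by
    have : 2 * (q * q) ≤ q ^ 3 := by rw [pow_succ, pow_two]; nlinarith
    have : q + 2 ≤ q * q := by nlinarith
    omega
  have ha0' : (a0 : K) ≠ 1 := fun e => by
    have e' : c ^ 2 = c ^ 0 := by rw [pow_zero, ← ha0]; exact Units.ext e
    have := hinj (by simp only [Set.mem_Iio]; omega) (by simp only [Set.mem_Iio]; omega) e'
    omega
  have ha1' : (a1 : K) ≠ 1 := fun e => by
    have e' : c ^ (q + q * q) = c ^ 1 := by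
      have : a1 = 1 := Units.ext e
      rw [ha1, mul_assoc, inv_mul_eq_one] at this
      rw [pow_add, pow_one]; exact this.symm
    have := hinj (by simp only [Set.mem_Iio]; omega) (by simp only [Set.mem_Iio]; omega) e'
    nlinarith
  have hbig : Nat.card K ≤ 2 * orderOf (a0 : K) + 1 := by
    rw [orderOf_units, ha0, Nat.card_eq_fintype_card, hK, orderOf_pow' c (by norm_num), hord]
    have hdv := Nat.gcd_dvd_left (q ^ 3 - 1) 2
    rcases (Nat.dvd_prime Nat.prime_two).1 (Nat.gcd_dvd_right (q ^ 3 - 1) 2) with e | e <;> rw [e] at hdv ⊢ <;> omega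
  obtain ⟨hA, hn⟩ := seed h φ (W := [1, 0, 2, 3]) (by decide +kernel) (T := [18, 13, 12]) (by decide +kernel)
    (by decide +kernel) (by decide +kernel) c h0 h1 ha0' ha1' hbig hh hb
  have hk : ∀ k, Full hc φ L ((mapS D4.cert [1, 0, 2, 3])^[k] (posL [18, 13, 12])) :=
    full_iterate hc φ (by decide +kernel) hn (by decide +kernel) hA
  have hA' : Full hc φ L (negL chevD4 [18, 13, 12]) := by
    have := full_neg hc φ (hk 3)
    rwa [show ((mapS D4.cert [1, 0, 2, 3])^[3] (posL [18, 13, 12])).map (fun p => (p.1, -p.2)) =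
      negL chevD4 [18, 13, 12] by decide +kernel] at this
  obtain ⟨t0, ht0⟩ := exists_sumPow_ne_zero hq.one_lt φ hφ (Or.inr rfl) hK
  have hfix : φ (sumPow φ 3 t0) = sumPow φ 3 t0 := sumPow_fixed φ t0 (Or.inr rfl) (hφn t0)
  refine genSubgroup_le hc ?_
  rintro w (⟨t, ht, r, hr, rfl⟩ | ⟨t, rs, hrs, rfl⟩)
  · simp only [List.mem_cons, List.not_mem_nil, or_false] at hr
    have ht' : φ t = t := by rw [hφ, ht]
    simp only [wordU, List.map_cons, List.map_nil, List.prod_cons, List.prod_nil, mul_one]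
    rcases hr with rfl | rfl
    · exact fixed_of_pair hc φ (Or.inr rfl) (g := 14) (k := -1) (by decide +kernel) (hk 3) (hk 4)
        (t0 := t0) ht0 hfix ht'
    · exact fixed_of_pair hc φ (Or.inl rfl) (g := 9) (k := 1) (by decide +kernel) (hk 0) (hk 1)
        (t0 := t0) ht0 hfix ht'
  · simp only [List.mem_cons, List.not_mem_nil, or_false] at hrs
    rcases hrs with rfl | rfl
    · convert hA t using 1
      simp [oEl, posL, wordU, hφ, pow_two, pow_mul, d4p1, d4p3, d4p4]
    · convert hA' t using 1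
      rw [show negL chevD4 [18, 13, 12] = posL [5, 10, 11] by decide +kernel]
      simp [oEl, posL, wordU, hφ, pow_two, pow_mul, d4m1, d4m3, d4m4]


theorem pair_e6 [Fintype K] {q : ℕ} (hq : IsPrimePow q) (hK : Fintype.card K = q ^ 2) :
    ∃ a b : ↥(twistedE6 K q), Subgroup.closure ({a, b} : Set ↥(twistedE6 K q)) = ⊤ := by
  classical
  obtain ⟨φ, hφ, hφn⟩ := exists_qFrobenius (by norm_num) hq hK
  have h : Rooted chevE6 E6.cert := ⟨checked_E6, descent_E6⟩
  have hc := h.toChecked
  have hq2 : 2 ≤ q := hq.two_le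
  obtain ⟨c, hcgen⟩ := IsCyclic.exists_monoid_generator (α := Kˣ)
  have hord : orderOf c = q ^ 2 - 1 := by
    rw [orderOf_eq_card_of_forall_mem_powers hcgen, Nat.card_units, Nat.card_eq_fintype_card, hK]
  have h4 : 4 ≤ q ^ 2 := by have := Nat.pow_le_pow_left hq2 2; simpa using this
  have hφ' : ∀ x : Kˣ, Units.map (φ : K →* K) x = x ^ q := fun x => Units.ext (by simp [hφ])
  have hgen : ∀ w ∈ e6Words K q, wordU hc w ∈ twistedE6 K q := fun w hw => mem_genSubgroup hc hw
  have hpair : ∀ rs ∈ [(e6p1, e6p6), (e6m1, e6m6), (e6p3, e6p5), (e6m3, e6m5)], ∀ t,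
      oEl hc φ (posL [rs.1, rs.2]) t ∈ twistedE6 K q := fun rs hrs t => by
    have := hgen [(rs.1, t), (rs.2, t ^ q)] (Or.inr ⟨t, rs, hrs, rfl⟩)
    convert this using 1
    simp [oEl, posL, wordU, hφ]
  have hlong : ∀ r ∈ [e6p2, e6m2, e6p4, e6m4], ∀ t : K, t ^ q = t → xU hc K r t ∈ twistedE6 K q :=
    fun r hr t ht => by simpa [wordU] using hgen [(r, t)] (Or.inl ⟨t, ht, r, hr, rfl⟩)
  have hnA1 : ∀ t, nA hc φ [56, 36] t ∈ twistedE6 K q := fun t => by
    rw [nA_eq h φ (by decide +kernel), show negL chevE6 [56, 36] = posL [15, 35] by decide +kernel]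
    exact (twistedE6 K q).mul_mem ((twistedE6 K q).mul_mem (hpair (e6p1, e6p6) (by simp) _)
      (hpair (e6m1, e6m6) (by simp) _)) (hpair (e6p1, e6p6) (by simp) _)
  have hnA3 : ∀ t, nA hc φ [42, 37] t ∈ twistedE6 K q := fun t => by
    rw [nA_eq h φ (by decide +kernel), show negL chevE6 [42, 37] = posL [29, 34] by decide +kernel]
    exact (twistedE6 K q).mul_mem ((twistedE6 K q).mul_mem (hpair (e6p3, e6p5) (by simp) _)
      (hpair (e6m3, e6m5) (by simp) _)) (hpair (e6p3, e6p5) (by simp) _)
  have hone : ((1 : K) ^ q = 1) ∧ ((-1 : K) ^ q = -1) := ⟨one_pow q, by rw [← hφ, map_neg, map_one]⟩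
  have hnU : ∀ (i : ℕ) (r r' : ℕ), i < chevE6.rank → chevE6.simple i = r → ng chevE6 r = r' →
      r ∈ [e6p2, e6m2, e6p4, e6m4] → r' ∈ [e6p2, e6m2, e6p4, e6m4] → nU hc K i ∈ twistedE6 K q := by
    intro i r r' hi e e' hr hr'
    rw [nU_eq hc hi, e, e']
    exact (twistedE6 K q).mul_mem ((twistedE6 K q).mul_mem (hlong _ hr _ hone.1) (hlong _ hr' _ hone.2))
      (hlong _ hr _ hone.1)
  have hnW : nW hc K [1, 3, 2, 4, 0, 5] ∈ twistedE6 K q := by
    have e : nW hc K [1, 3, 2, 4, 0, 5] =
        nU hc K 1 * nU hc K 3 * nA hc φ [42, 37] 1 * nA hc φ [56, 36] 1 := by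
      simp only [nW, nA, List.map_cons, List.map_nil, List.prod_cons, List.prod_nil, map_one, mul_one]
      rw [nU_eq hc (show 0 < chevE6.rank by decide), nU_eq hc (show 2 < chevE6.rank by decide),
        nU_eq hc (show 4 < chevE6.rank by decide), nU_eq hc (show 5 < chevE6.rank by decide),
        show chevE6.simple 0 = 56 by decide +kernel, show chevE6.simple 2 = 42 by decide +kernel,
        show chevE6.simple 4 = 37 by decide +kernel, show chevE6.simple 5 = 36 by decide +kernel]
      simp [wordU, ChevalleyDatum.nWord, hc.neg_eq (show 56 < chevE6.nroots by decide),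
        hc.neg_eq (show 42 < chevE6.nroots by decide), hc.neg_eq (show 37 < chevE6.nroots by decide),
        hc.neg_eq (show 36 < chevE6.nroots by decide), mul_assoc]
    rw [e]
    exact (twistedE6 K q).mul_mem ((twistedE6 K q).mul_mem ((twistedE6 K q).mul_mem
      (hnU 1 e6p2 e6m2 (by decide) (by decide +kernel) (by decide +kernel) (by simp) (by simp))
      (hnU 3 e6p4 e6m4 (by decide) (by decide +kernel) (by decide +kernel) (by simp) (by simp))) (hnA3 1)) (hnA1 1)
  have htor : tor hc φ [56, 36] c ∈ twistedE6 K q := by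
    rw [tor_eq h φ (by decide +kernel)]
    exact (twistedE6 K q).mul_mem (hnA1 _) (hnA1 _)
  have hx : oEl hc φ (posL [56, 36]) 1 ∈ twistedE6 K q := hpair (e6p1, e6p6) (by simp) 1
  refine exists_pair_ab htor ((twistedE6 K q).mul_mem hx hnW) fun L hh hb => ?_
  have eW : [56, 36].map (sig E6.cert [1, 3, 2, 4, 0, 5]) = [10, 22] := by decide +kernel
  have e0 : [(chevE6.pairing 56 56 : ℤ), chevE6.pairing 36 56, chevE6.pairing 56 36, chevE6.pairing 36 36,
      chevE6.pairing 10 56, chevE6.pairing 22 56, chevE6.pairing 10 36, chevE6.pairing 22 36] =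
      [2, 0, 0, 2, -1, 0, 0, -1] := by
    decide +kernel
  simp only [List.cons.injEq, and_true] at e0
  set a0 : Kˣ := c ^ 2 with ha0
  set a1 : Kˣ := c⁻¹ with ha1
  have hit : ∀ (i : ℕ) (x : Kˣ), φ^[i] (x : K) = (((Units.map φ.toMonoidHom)^[i] x : Kˣ) : K) := by
    intro i
    induction i with
    | zero => intro x; rfl
    | succ i ih => intro x; rw [Function.iterate_succ_apply', ih, Function.iterate_succ_apply']; rfl
  have h0 : ∀ i, ∀ hi : i < (posL [56, 36]).length,
      (chi chevE6 φ [56, 36] c ((posL [56, 36])[i]).1 : K) = φ^[i] (a0 : K) := by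
    intro i hi
    rw [hit]
    congr 1
    simp only [posL, List.map_cons, List.map_nil, List.length_cons, List.length_nil] at hi
    interval_cases i <;>
      simp [posL, chi, hφ', e0, ha0, ← pow_mul, mul_comm] <;> norm_cast <;> simp [← pow_mul, mul_comm]
  have h1 : ∀ i, ∀ hi : i < (posL [56, 36]).length,
      (chi chevE6 φ ([56, 36].map (sig E6.cert [1, 3, 2, 4, 0, 5])) c ((posL [56, 36])[i]).1 : K) =
        φ^[i] (a1 : K) := by
    intro i hi
    rw [hit]
    congr 1
    rw [eW]
    simp only [posL, List.map_cons, List.map_nil, List.length_cons, List.length_nil] at hi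
    interval_cases i <;> simp [posL, chi, hφ', e0, ha1]
  have hinj := pow_injOn_Iio_orderOf (x := c)
  have ha0' : (a0 : K) ≠ 1 := fun e => by
    have e' : c ^ 2 = c ^ 0 := by rw [pow_zero, ← ha0]; exact Units.ext e
    have := hinj (by simp only [Set.mem_Iio]; omega) (by simp only [Set.mem_Iio]; omega) e'
    omega
  have ha1' : (a1 : K) ≠ 1 := fun e => by
    have : a1 = 1 := Units.ext e
    rw [ha1, inv_eq_one] at this
    rw [this, orderOf_one] at hord
    omega
  have hbig : Nat.card K ≤ 2 * orderOf (a0 : K) + 1 := by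
    rw [orderOf_units, ha0, Nat.card_eq_fintype_card, hK, orderOf_pow' c (by norm_num), hord]
    have hdv := Nat.gcd_dvd_left (q ^ 2 - 1) 2
    rcases (Nat.dvd_prime Nat.prime_two).1 (Nat.gcd_dvd_right (q ^ 2 - 1) 2) with e | e <;>
      rw [e] at hdv ⊢ <;> omega
  obtain ⟨hA, hn⟩ := seed h φ (W := [1, 3, 2, 4, 0, 5]) (by decide +kernel) (T := [56, 36]) (by decide +kernel)
    (by decide +kernel) (by decide +kernel) c h0 h1 ha0' ha1' hbig hh hb
  have hk : ∀ k, Full hc φ L ((mapS E6.cert [1, 3, 2, 4, 0, 5])^[k] (posL [56, 36])) :=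
    full_iterate hc φ (by decide +kernel) hn (by decide +kernel) hA
  have hrot : ∀ (k : ℕ) (a b : ℕ × ℤ), (mapS E6.cert [1, 3, 2, 4, 0, 5])^[k] (posL [56, 36]) = [a, b] →
      crossOK chevE6 E6.cert [a] [b] = true → Full hc φ L [b, a] := fun k a b e hab => by
    have := hk k
    rw [e] at this
    exact full_rot hc φ (R := [b]) (fun t => hφn t) hab this
  obtain ⟨t0, ht0⟩ := exists_sumPow_ne_zero hq.one_lt φ hφ (Or.inl rfl) hK
  have hfix : φ (sumPow φ 2 t0) = sumPow φ 2 t0 := sumPow_fixed φ t0 (Or.inl rfl) (hφn t0)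
  refine genSubgroup_le hc ?_
  rintro w (⟨t, ht, r, hr, rfl⟩ | ⟨t, rs, hrs, rfl⟩)
  · simp only [List.mem_cons, List.not_mem_nil, or_false] at hr
    have ht' : φ t = t := by rw [hφ, ht]
    simp only [wordU, List.map_cons, List.map_nil, List.prod_cons, List.prod_nil, mul_one]
    rcases hr with rfl | rfl | rfl | rfl
    · exact fixed_of_pair hc φ (Or.inr rfl) (g := 46) (k := -1) (by decide +kernel) (hk 4)
        (hrot 7 (49, -1) (61, 1) (by decide +kernel) (by decide +kernel)) (t0 := t0) ht0 hfix ht'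
    · exact fixed_of_pair hc φ (Or.inr rfl) (g := 25) (k := -1) (by decide +kernel) (hk 1)
        (hrot 10 (41, 1) (58, 1) (by decide +kernel) (by decide +kernel)) (t0 := t0) ht0 hfix ht'
    · exact fixed_of_pair hc φ (Or.inr rfl) (g := 39) (k := -1) (by decide +kernel) (hk 5)
        (hrot 8 (43, 1) (40, -1) (by decide +kernel) (by decide +kernel)) (t0 := t0) ht0 hfix ht'
    · exact fixed_of_pair hc φ (Or.inr rfl) (g := 32) (k := -1) (by decide +kernel) (hk 2)
        (hrot 11 (42, 1) (37, 1) (by decide +kernel) (by decide +kernel)) (t0 := t0) ht0 hfix ht'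
  · have key : Full hc φ L (posL [rs.1, rs.2]) := by
      simp only [List.mem_cons, List.not_mem_nil, or_false] at hrs
      rcases hrs with rfl | rfl | rfl | rfl
      · exact hA
      · have := full_neg hc φ (hrot 6 (35, -1) (15, -1) (by decide +kernel) (by decide +kernel))
        exact this
      · have := hk 11
        rwa [show (mapS E6.cert [1, 3, 2, 4, 0, 5])^[11] (posL [56, 36]) = posL [42, 37] by decide +kernel] at this
      · have := full_neg hc φ (hrot 5 (34, -1) (29, -1) (by decide +kernel) (by decide +kernel))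
        exact this
    convert key t using 1
    simp [oEl, posL, wordU, hφ]

end Cfsg.Agent.Lib.TwistGen
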