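import Mathlib
import Cfsg.Agent.Lib.TwistGen.Ree
import Cfsg.Agent.Lib.Twisted.Ree.F4Torus

/-!
Two generators for the large Ree groups.
-/

set_option autoImplicit false

namespace Cfsg.Agent.Lib.TwistGen.LargeRee

open Cfsg.Lie Cfsg.Agent.Lib.Chev Cfsg.Agent.Lib.Twisted Cfsg.Agent.Lib.Twisted.ReeF

variable {K : Type*} [Field K]

local notation "X" => xG (K := K) checked_F4

/-- The permutation of the roots by `n_P n_Q`. -/
def pif (r : ℕ) : ℕ := perm F4.cert LP (perm F4.cert LQ r)

/-- The roots are different and the commutator terms are even. -/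
def evenOK (r s : ℕ) : Bool :=
  Nat.blt r chevF4.nroots && Nat.blt s chevF4.nroots && s != r && s != ng chevF4 r &&
    (cTerms F4.cert r s).all fun c => Nat.blt c.1 chevF4.nroots && c.2.1 % 2 == 0

variable [CharP K 2]

theorem commute_even {r s : ℕ} (h : evenOK r s = true) (t u : K) : Commute (X r t) (X s u) := by
  simp only [evenOK, Bool.and_eq_true, Nat.blt_eq, bne_iff_ne, List.all_eq_true, beq_iff_eq] at h
  obtain ⟨⟨⟨⟨hr, hs⟩, h1⟩, h2⟩, hT⟩ := h
  refine xG_commute checked_F4 hr hs rfl h1 h2 (fun c hc => ⟨(hT c hc).1, ?_⟩) t u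
  have := (hT c hc).2
  exact (CharP.intCast_eq_zero_iff K 2 _).2 (Int.dvd_of_emod_eq_zero (by exact_mod_cast this))

theorem move_27_25 (a b : K) : X 27 a * X 25 b = X 25 b * (X 27 a * (X 28 (b * a) * X 30 (b * a ^ 2))) := by
  rw [xG_comm checked_F4 (r := 25) (s := 27) (by decide) (by decide) (T := [(28, 1, 1, 1), (30, -1, 1, 2)])
    (by decide +kernel) (by decide) (by decide) b a]
  simp [wordG, mul_assoc, neg_eq]

theorem srtQ_mul (p q r s p' q' r' s' : K) :
    srtQ p q r s * srtQ p' q' r' s' =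
      srtQ (p + p') (q + q') (r + r' + p' * q) (s + s' + p' * q ^ 2) := by
  have e28 : ∀ a b : K, Commute (X 28 a) (X 25 b) := fun a b => commute_even (by decide +kernel) a b
  have e30 : ∀ a b : K, Commute (X 30 a) (X 25 b) := fun a b => commute_even (by decide +kernel) a b
  have f28 : ∀ a b : K, Commute (X 28 a) (X 27 b) := fun a b => commute_even (by decide +kernel) a b
  have f30 : ∀ a b : K, Commute (X 30 a) (X 27 b) := fun a b => commute_even (by decide +kernel) a b
  have g : ∀ a b : K, Commute (X 30 a) (X 28 b) := fun a b => commute_even (by decide +kernel) a b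
  have add : ∀ {i : ℕ}, i < chevF4.nroots → ∀ (a b : K) (z : ↥(chevF4.group K)),
      X i a * (X i b * z) = X i (a + b) * z := fun hi a b z => by rw [← mul_assoc, xG_add _ hi]
  have sw : ∀ {A B : ↥(chevF4.group K)}, Commute A B → ∀ z, A * (B * z) = B * (A * z) := fun hAB z => by
    rw [← mul_assoc, hAB.eq, mul_assoc]
  have m : ∀ (a b : K) (z : ↥(chevF4.group K)),
      X 27 a * (X 25 b * z) = X 25 b * (X 27 a * (X 28 (b * a) * (X 30 (b * a ^ 2) * z))) := fun a b z => by
    rw [← mul_assoc, move_27_25]; simp only [mul_assoc]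
  simp only [srtQ, wordG, List.map_cons, List.map_nil, List.prod_cons, List.prod_nil, mul_one, mul_assoc]
  rw [sw (e30 s p'), sw (e28 r p'), m q p', add (by decide)]
  congr 1
  rw [sw (f30 s q'), sw (f28 r q'), sw (f30 (p' * q ^ 2) q'), sw (f28 (p' * q) q'), add (by decide)]
  congr 1
  rw [sw (g (p' * q ^ 2) r), add (by decide), sw (g s r'), sw (g (p' * q ^ 2) r'), add (by decide),
    add (by decide), xG_add _ (by decide)]
  congr 2 <;> ring

theorem classU_mul {e m : ℕ} (hm : e = 2 ^ m) (he : ∀ x : K, x ^ (2 * (e * e)) = x) (t u t' u' : K) :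
    classU e t u * classU e t' u' = classU e (t + t') (u + u' + t' * t ^ e) := by
  have : Fact (Nat.Prime 2) := ⟨Nat.prime_two⟩
  have hadd : ∀ a b : K, (a + b) ^ e = a ^ e + b ^ e := fun a b => by rw [hm, add_pow_char_pow]
  have hp : ∀ x : K, x ^ (2 * e) = (x ^ e) ^ 2 := fun x => by rw [← pow_mul, mul_comm]
  have hsq : ∀ a b : K, (a + b) ^ 2 = a ^ 2 + b ^ 2 := fun a b => CharTwo.add_sq a b
  rw [classU_eq, classU_eq, classU_eq, srtQ_mul]
  simp only [hp, hadd, hsq, mul_pow, (pow_e_mul he t).2.1]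
  congr 1
  · rw [show ((t ^ e) ^ e) ^ 2 = t by rw [← pow_mul, ← pow_mul, show e * (e * 2) = 2 * (e * e) by ring, he]]
    linear_combination -(t * (t' ^ e) ^ 2) * CharTwo.two_eq_zero (R := K)

variable [Fintype K]

theorem pair_largeRee {m : ℕ} (hm : 1 ≤ m) (hK : Fintype.card K = 2 ^ (2 * m + 1)) :
    ∃ a b : ↥(twistedF4 K (2 ^ m)), Subgroup.closure ({a, b} : Set ↥(twistedF4 K (2 ^ m))) = ⊤ := by
  classical
  set e := 2 ^ m with hem
  have he : ∀ x : K, x ^ (2 * (e * e)) = x := pow_theta hK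
  have he0 : e ≠ 0 := by rw [hem]; positivity
  obtain ⟨σ, hσ⟩ := exists_sigma hK
  obtain ⟨c, hcgen⟩ := IsCyclic.exists_monoid_generator (α := Kˣ)
  have hQ : Nat.card K = 2 ^ (2 * m + 1) := by rw [Nat.card_eq_fintype_card, hK]
  have hord : orderOf c = Nat.card K - 1 := by
    rw [orderOf_eq_card_of_forall_mem_powers hcgen, Nat.card_units]
  have h8 : 8 ≤ Nat.card K := by
    rw [hQ]; calc 8 = 2 ^ 3 := by norm_num
      _ ≤ _ := Nat.pow_le_pow_right (by norm_num) (by omega)
  have hcu : ∀ x : Kˣ, x ^ (2 * (e * e)) = x := fun x => Units.ext (by simp [he])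
  have hcard : ∀ y : Kˣ, y ^ e = y → y = 1 := by
    intro y hy
    have h2 : y ^ 2 = y := by
      conv_rhs => rw [← hcu y]
      rw [mul_comm 2, pow_mul, pow_mul, hy, hy]
    rwa [pow_two, mul_eq_left] at h2
  -- scalars
  set χ : ℕ → Kˣ := fun r => torusFun chevF4 (quad ((1 : Kˣ) ^ e) (c ^ e) c 1) r with hχ
  have hχv : ∀ r, χ r = (c ^ e) ^ chevF4.cartan 1 r * c ^ chevF4.cartan 2 r := by
    intro r
    obtain ⟨q0, q1, q2, q3⟩ := quad_vals ((1 : Kˣ) ^ e) (c ^ e) c 1
    simp only [hχ, torusFun, show chevF4.rank = 4 from rfl, Finset.prod_range_succ, Finset.prod_range_zero,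
      one_mul]
    rw [q0, q1, q2, q3]
    simp
  have h25 : χ 25 = ((c ^ e)⁻¹ * c) ^ 2 := by
    rw [hχv, show chevF4.cartan 1 25 = -2 by decide +kernel, show chevF4.cartan 2 25 = 2 by decide +kernel]
    norm_cast
    rw [zpow_negSucc, mul_pow, inv_pow]
  have h28 : χ 28 = c := by
    rw [hχv, show chevF4.cartan 1 28 = 0 by decide +kernel, show chevF4.cartan 2 28 = 1 by decide +kernel]
    simp
  have hinjsq : ∀ y : Kˣ, y ^ 2 = 1 → y = 1 := by
    intro y hy
    rw [← hcu y, pow_mul, hy, one_pow]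
  have hlord : Nat.card K ≤ 2 * orderOf ((χ 25 : Kˣ) : K) + 1 := by
    rw [orderOf_units]
    have h1 : (χ 25) ^ orderOf (χ 25) = 1 := pow_orderOf_eq_one _
    set n := orderOf (χ 25)
    rw [h25, ← pow_mul, mul_comm 2, pow_mul] at h1
    have h2 := hinjsq _ h1
    rw [mul_pow, inv_pow, inv_mul_eq_one] at h2
    have h3 : c ^ n = 1 := hcard _ (by rw [← pow_mul, mul_comm, pow_mul, h2])
    have := Nat.le_of_dvd (orderOf_pos _) (hord ▸ orderOf_dvd_of_pow_eq_one h3)
    omega
  have hmord : Nat.card K ≤ 2 * orderOf ((χ 28 : Kˣ) : K) + 1 := by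
    rw [orderOf_units, h28, hord]; omega
  -- torus elements
  set a := ct e (1 : Kˣ) c with ha
  set a' := nP * a⁻¹ * nP⁻¹ with ha'
  have hax : ∀ r, r < chevF4.nroots → ∀ t : K, a * X r t * a⁻¹ = X r ((χ r : K) * t) := by
    intro r hr t
    refine Subtype.ext ?_
    simp only [Subgroup.coe_mul, Subgroup.coe_inv, ha, ct, coe_torusG, xG, dif_pos hr]
    exact checked_F4.conj_x hr t
  have hainv : ∀ r, r < chevF4.nroots → ∀ t : K, a⁻¹ * X r t * a = X r (((χ r)⁻¹ : Kˣ) * t) := by
    intro r hr t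
    have := hax r hr (((χ r)⁻¹ : Kˣ) * t)
    rw [← mul_assoc, ← Units.val_mul, mul_inv_cancel, Units.val_one, one_mul] at this
    rw [← this]; group
  have hP : ∀ r, r < chevF4.nroots → ∀ t : K, nP * X r t * nP⁻¹ = X (perm F4.cert LP r) t := fun r hr t => by
    rw [nP, n_conj isWord_LP r hr t, one_mul]
  have hPP : ∀ r : Fin chevF4.nroots, perm F4.cert LP r.1 < chevF4.nroots ∧
      perm F4.cert LP (perm F4.cert LP r.1) = r.1 := by decide +kernel
  have hPinv : ∀ r, r < chevF4.nroots → ∀ t : K, nP⁻¹ * X r t * nP = X (perm F4.cert LP r) t := fun r hr t => by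
    have := hP _ (hPP ⟨r, hr⟩).1 t
    rw [(hPP ⟨r, hr⟩).2] at this
    rw [← this]; group
  have hax' : ∀ r, r < chevF4.nroots → ∀ t : K,
      a' * X r t * a'⁻¹ = X r (((χ (perm F4.cert LP r))⁻¹ : Kˣ) * t) := by
    intro r hr t
    calc a' * X r t * a'⁻¹ = nP * (a⁻¹ * (nP⁻¹ * X r t * nP) * a) * nP⁻¹ := by rw [ha']; group
      _ = _ := by rw [hPinv r hr, hainv _ (hPP ⟨r, hr⟩).1, hP _ (hPP ⟨r, hr⟩).1, (hPP ⟨r, hr⟩).2]
  have haf : σ a = a := ct_fixed hσ he 1 c
  have haf' : σ a' = a' := by rw [ha', map_mul, map_mul, map_inv, map_inv, haf, nP_fixed hσ he]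
  have had : (a : GL chevF4.Idx K) ∈ chevF4.diagonalSubgroup K := by
    rw [rooted_F4.diagonalSubgroup_eq]; exact ⟨_, rfl⟩
  have hnM : (nP (K := K) : GL chevF4.Idx K) ∈ chevF4.monomialSubgroup K := by
    rw [coe_nP]
    exact rooted_F4.mem_monomial_set ⟨LP, isWord_LP, 1, one_mem _, (mul_one _).symm⟩
  have had' : (a' : GL chevF4.Idx K) ∈ chevF4.diagonalSubgroup K := by
    rw [ha', Subgroup.coe_mul, Subgroup.coe_mul, Subgroup.coe_inv, Subgroup.coe_inv]
    exact (Subgroup.mem_normalizer_iff.1 (rooted_F4.diagonal_normal_monomial hnM) _).1 (inv_mem had)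
  have hcomm : a * a' = a' * a := by
    obtain ⟨u, hu⟩ := (rooted_F4.diagonalSubgroup_eq (F := K)) ▸ had
    obtain ⟨w, hw⟩ := (rooted_F4.diagonalSubgroup_eq (F := K)) ▸ had'
    have key : (a : GL chevF4.Idx K) * (a' : GL chevF4.Idx K) = (a' : GL chevF4.Idx K) * (a : GL chevF4.Idx K) := by
      rw [← hu, ← hw, ← map_mul, ← map_mul, mul_comm]
    exact Subtype.ext key
  have hU : ∀ (A : ↥(chevF4.group K)) (g : ℕ → Kˣ),
      (∀ r, r < chevF4.nroots → ∀ t : K, A * X r t * A⁻¹ = X r ((g r : K) * t)) → σ A = A →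
      ∀ t u : K, A * classU e t u * A⁻¹ = classU e ((g 25 : K) * t) ((g 28 : K) * u) := by
    intro A g hA hAf t u
    have e2 : A * classU e t u * A⁻¹ = srtQ ((g 25 : K) * t) ((g 27 : K) * t ^ e) ((g 28 : K) * u)
        ((g 30 : K) * (u ^ (2 * e) + t * (t ^ e) ^ 2)) := by
      rw [classU_eq]
      simp only [srtQ, wordG, List.map_cons, List.map_nil, List.prod_cons, List.prod_nil, mul_one,
        ← hA _ (show 25 < chevF4.nroots by decide), ← hA _ (show 27 < chevF4.nroots by decide),
        ← hA _ (show 28 < chevF4.nroots by decide), ← hA _ (show 30 < chevF4.nroots by decide)]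
      group
    have hset : ((A * classU e t u * A⁻¹ : ↥(chevF4.group K)) : GL chevF4.Idx K) ∈ rootGen chevF4 K setQ := by
      rw [e2, srtQ]
      simp only [wordG, List.map_cons, List.map_nil, List.prod_cons, List.prod_nil, mul_one, Subgroup.coe_mul]
      have hm' : ∀ r, r ∈ [25, 27, 28, 30] → ∀ z : K, (X r z : GL chevF4.Idx K) ∈ rootGen chevF4 K setQ :=
        fun r hr z => by
          exact mem_rootGen (S := setQ) (t := z) (show r ∈ setQ from hr) (coe_xG checked_F4 r z)
      exact mul_mem (hm' _ (by simp) _) (mul_mem (hm' _ (by simp) _) (mul_mem (hm' _ (by simp) _) (hm' _ (by simp) _)))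
    obtain ⟨t', u', hb⟩ := exists_classU hσ (g := A * classU e t u * A⁻¹) hset
      (by rw [map_mul, map_mul, map_inv, hAf, classU_fixed hσ he hem])
    rw [hb, classU_eq] at e2
    obtain ⟨e1, -, e3, -⟩ := srtQ_injective e2
    rw [hb, e1, e3]
  have hl' : ((χ (perm F4.cert LP 25))⁻¹ : Kˣ) ≠ 1 := by
    rw [show perm F4.cert LP 25 = 26 by decide +kernel, hχv,
      show chevF4.cartan 1 26 = -2 by decide +kernel, show chevF4.cartan 2 26 = 1 by decide +kernel]
    intro h1
    rw [inv_eq_one, zpow_one, show (-2 : ℤ) = -((2 : ℕ) : ℤ) by norm_num, zpow_neg, zpow_natCast,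
      inv_mul_eq_one] at h1
    have h2 : c ^ e = c :=
      calc c ^ e = ((c ^ e) ^ 2) ^ e := by rw [(h1 : (c ^ e) ^ 2 = c)]
        _ = c ^ (2 * (e * e)) := by rw [← pow_mul, ← pow_mul]; congr 1; ring
        _ = c := hcu c
    have := hcard c h2
    rw [this, orderOf_one] at hord
    omega
  set n := nP (K := K) * nQ with hn
  set x := classU e (1 : K) 0 with hx
  have hnG : (n : GL chevF4.Idx K) ∈ twistedF4 K e := by
    rw [hn, Subgroup.coe_mul]; exact mul_mem nP_mem nQ_mem
  refine Ree.pair_ree.exists_pair_ree (a := (a : GL chevF4.Idx K)) (b := ((x * n : ↥(chevF4.group K)) : GL chevF4.Idx K))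
    (ct_mem hσ he 1 c) (by rw [Subgroup.coe_mul]; exact mul_mem (classU_mem _ _) hnG) fun L hLa hLb => ?_
  set M := L.comap (chevF4.group K).subtype with hM
  have hA : a ∈ M := hLa
  have hB : x * n ∈ M := hLb
  have hnQ : nQ * a * (nQ (K := K))⁻¹ = a⁻¹ := by
    rw [nQ, ha]
    exact n_conj_ct isWord_LQ (S := [1, 2]) (by decide +kernel) (fun i hi => by
      simp only [List.mem_cons, List.not_mem_nil, or_false, not_or] at hi
      simp [quad, hi.1, hi.2])
  have hconj : x * a' * x⁻¹ ∈ M := by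
    have := mul_mem (mul_mem hB hA) (inv_mem hB)
    rwa [show x * n * a * (x * n)⁻¹ = x * (nP * (nQ * a * (nQ (K := K))⁻¹) * nP⁻¹) * x⁻¹ by rw [hn]; group,
      hnQ, ← ha'] at this
  have mulU := fun t u t' u' => classU_mul (K := K) hem he t u t' u'
  have hU0 : classU e (0 : K) 0 = 1 := by
    have h := mulU 0 0 0 0
    simpa [zero_pow he0] using h
  have hinv : ∀ t : K, ∃ u' : K, ∀ u : K, (classU e t u)⁻¹ = classU e t (u + u') := fun t => ⟨t * t ^ e, fun u => by
    rw [inv_eq_iff_mul_eq_one, mulU, CharTwo.add_self_eq_zero, ← add_assoc, CharTwo.add_self_eq_zero, zero_add,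
      CharTwo.add_self_eq_zero, hU0]⟩
  -- first coordinate
  have hfirst : ∀ t : K, ∃ u : K, classU e t u ∈ M := by
    let S : AddSubgroup K :=
      { carrier := {t | ∃ u : K, classU e t u ∈ M}
        zero_mem' := ⟨0, by rw [hU0]; exact one_mem M⟩
        add_mem' := by
          rintro p q ⟨u, h1⟩ ⟨u', h2⟩
          exact ⟨_, by rw [← mulU]; exact mul_mem h1 h2⟩
        neg_mem' := by
          rintro p ⟨u, h1⟩
          exact ⟨u, by rw [neg_eq]; exact h1⟩ }
    set l : K := ((χ 25 : Kˣ) : K)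
    set l' : K := (((χ (perm F4.cert LP 25))⁻¹ : Kˣ) : K)
    have hne : l * 1 + (l' * (l * 1)) + l' * 1 + 1 ≠ 0 := by
      have e' : l * 1 + (l' * (l * 1)) + l' * 1 + 1 = (l + 1) * (l' + 1) := by ring
      rw [e']
      refine mul_ne_zero (fun h0 => ?_) (fun h0 => ?_)
      · have : l = 1 := by rw [← neg_eq (1 : K)]; exact eq_neg_of_add_eq_zero_left h0
        rw [this, orderOf_one] at hlord
        omega
      · have : l' = 1 := by rw [← neg_eq (1 : K)]; exact eq_neg_of_add_eq_zero_left h0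
        exact hl' (Units.ext this)
    have hs : l * 1 + (l' * (l * 1)) + l' * 1 + 1 ∈ S := by
      have hmem := mul_mem (mul_mem (mul_mem hA hconj) (inv_mem hA)) (inv_mem hconj)
      obtain ⟨u1, hu1⟩ := hinv (1 : K)
      have e1 : a * (x * a' * x⁻¹) * a⁻¹ * (x * a' * x⁻¹)⁻¹ =
          (a * x * a⁻¹) * (a' * (a * x⁻¹ * a⁻¹) * a'⁻¹) * (a' * x * a'⁻¹) * x⁻¹ := by
        calc a * (x * a' * x⁻¹) * a⁻¹ * (x * a' * x⁻¹)⁻¹
            = a * x * a⁻¹ * (a * a') * x⁻¹ * a⁻¹ * x * a'⁻¹ * x⁻¹ := by group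
          _ = a * x * a⁻¹ * (a' * a) * x⁻¹ * a⁻¹ * x * a'⁻¹ * x⁻¹ := by rw [hcomm]
          _ = _ := by group
      rw [e1, hx, hu1, hU a χ hax haf, hU a χ hax haf, hU a' _ hax' haf', hU a' _ hax' haf', mulU, mulU,
        mulU] at hmem
      exact ⟨_, hmem⟩
    have hS : S = ⊤ := Ree.addSubgroup_top S hne hs (fun t ⟨u, h1⟩ =>
      ⟨_, by rw [← hU a χ hax haf]; exact mul_mem (mul_mem hA h1) (inv_mem hA)⟩) hlord
    intro t
    show t ∈ S
    rw [hS]; trivial
  have hsecond : ∀ u : K, classU e 0 u ∈ M := by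
    let S : AddSubgroup K :=
      { carrier := {u | classU e 0 u ∈ M}
        zero_mem' := by rw [Set.mem_ofPred_eq, hU0]; exact one_mem M
        add_mem' := by
          intro p q h1 h2
          have := mul_mem (show classU e 0 p ∈ M from h1) (show classU e 0 q ∈ M from h2)
          rwa [mulU, add_zero, zero_mul, add_zero] at this
        neg_mem' := by
          intro p h1
          show classU e 0 (-p) ∈ M
          rwa [neg_eq] }
    have hs : (1 : K) ∈ S := by
      obtain ⟨u, h1⟩ := hfirst 1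
      have := mul_mem h1 h1
      rwa [mulU, CharTwo.add_self_eq_zero, CharTwo.add_self_eq_zero, one_pow, one_mul, zero_add] at this
    have hS : S = ⊤ := Ree.addSubgroup_top S one_ne_zero hs (fun u h1 => by
      have := mul_mem (mul_mem hA (show classU e 0 u ∈ M from h1)) (inv_mem hA)
      rwa [hU a χ hax haf, mul_zero] at this) hmord
    intro u
    show u ∈ S
    rw [hS]; trivial
  have hall : ∀ t u : K, classU e t u ∈ M := by
    intro t u
    obtain ⟨u1, h1⟩ := hfirst t
    have := mul_mem (hsecond (u + u1)) h1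
    rwa [mulU, zero_add, zero_pow he0, mul_zero, add_zero, add_assoc, CharTwo.add_self_eq_zero, add_zero] at this
  have hnM' : n ∈ M := by
    have := mul_mem (inv_mem (hall 1 0)) hB
    rwa [← hx, inv_mul_cancel_left] at this
  have hπ : ∀ r : Fin chevF4.nroots, perm F4.cert LQ r.1 < chevF4.nroots ∧ pif r.1 < chevF4.nroots := by
    decide +kernel
  have hnconj : ∀ r, r < chevF4.nroots → ∀ t : K, n * X r t * n⁻¹ = X (pif r) (1 * t) := fun r hr t => by
    rw [show n * X r t * n⁻¹ = nP * (nQ * X r t * (nQ (K := K))⁻¹) * nP⁻¹ by rw [hn]; group,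
      show nQ * X r t * (nQ (K := K))⁻¹ = X (perm F4.cert LQ r) (1 * t) from n_conj isWord_LQ r hr t,
      hP _ (hπ ⟨r, hr⟩).1]
    rfl
  have hword : ∀ (k : ℕ) (w : List (ℕ × K)), (∀ p ∈ w, p.1 < chevF4.nroots) → wordG checked_F4 w ∈ M →
      (∀ p ∈ w.map (fun p => (pif^[k] p.1, p.2)), p.1 < chevF4.nroots) ∧
        wordG checked_F4 (w.map fun p => (pif^[k] p.1, p.2)) ∈ M := by
    intro k w hlt hw
    induction k with
    | zero => exact ⟨by simpa using hlt, by simpa using hw⟩
    | succ k ih =>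
      obtain ⟨hl, hm'⟩ := ih
      have := mul_mem (mul_mem hnM' hm') (inv_mem hnM')
      rw [conj_wordG checked_F4 (π := pif) (c := fun _ => 1) (fun r hr t => hnconj r hr t) _ hl] at this
      simp only [List.map_map, Function.comp_def, one_mul] at this
      simp only [Function.iterate_succ_apply']
      refine ⟨fun p hp => ?_, this⟩
      simp only [List.mem_map] at hp
      obtain ⟨q, hq, rfl⟩ := hp
      exact (hπ ⟨_, hl _ (List.mem_map.2 ⟨q, hq, rfl⟩)⟩).2
  have hclass : ∀ (k : ℕ) (t u : K), wordG checked_F4 ((b2ClassWord e f4a f4b f4ab f4aab t u).map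
      fun p => (pif^[k] p.1, p.2)) ∈ M := fun k t u => by
    refine (hword k _ ?_ (hall t u)).2
    simp only [b2ClassWord, List.forall_mem_cons]
    exact ⟨by decide, by decide, by decide, by decide, by simp⟩
  have hcentre : ∀ (k : ℕ) (u : K), X (pif^[k] 28) u * X (pif^[k] 30) (u ^ (2 * e)) ∈ M := fun k u => by
    have h1 := (hword k [(28, u), (30, u ^ (2 * e))]
      (by simp only [List.forall_mem_cons]; exact ⟨by decide, by decide, by simp⟩) (by
        have := hsecond u
        convert this using 1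
        simp [classU, wordG, b2ClassWord, f4a, f4b, f4ab, f4aab, zero_pow he0,
          xG_zero checked_F4 (show 25 < chevF4.nroots by decide),
          xG_zero checked_F4 (show 27 < chevF4.nroots by decide)])).2
    simpa [wordG] using h1
  have hpair : ∀ t : K, pairU e t ∈ M := by
    intro t
    have hC3 : ∀ u : K, X 7 u * X 1 (u ^ (2 * e)) ∈ M := fun u => by
      simpa [show pif^[3] 28 = 7 by decide +kernel, show pif^[3] 30 = 1 by decide +kernel] using hcentre 3 u
    have hC4 : ∀ u : K, X 19 u * X 17 (u ^ (2 * e)) ∈ M := fun u => by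
      simpa [show pif^[4] 28 = 19 by decide +kernel, show pif^[4] 30 = 17 by decide +kernel] using hcentre 4 u
    have hC5 : ∀ u : K, X 36 u * X 42 (u ^ (2 * e)) ∈ M := fun u => by
      simpa [show pif^[5] 28 = 36 by decide +kernel, show pif^[5] 30 = 42 by decide +kernel] using hcentre 5 u
    have hC6 : ∀ u : K, X 44 u * X 47 (u ^ (2 * e)) ∈ M := fun u => by
      simpa [show pif^[6] 28 = 44 by decide +kernel, show pif^[6] 30 = 47 by decide +kernel] using hcentre 6 u
    set s := t ^ e with hs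
    have hs2 : s ^ (2 * e) = t := by rw [hs, ← pow_mul, show e * (2 * e) = 2 * (e * e) by ring, he]
    set A := X 7 (1 : K)
    set B := X 1 (1 : K)
    set C := X 44 s
    set D := X 47 t
    set Z1 := X 36 t * X 17 t
    set Z2 := X 33 s
    set Z3 := X 24 t
    set Z4 := X 19 s * X 42 (s ^ 2)
    have eDA : D * A = A * D * Z1 := by
      simp only [D, A, Z1]
      rw [xG_comm checked_F4 (r := 7) (s := 47) (by decide) (by decide) (T := [(36, -1, 1, 1), (17, 1, 2, 1)])
        (by decide +kernel) (by decide) (by decide) 1 t]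
      simp [wordG, neg_eq]
    have eCA : C * A = A * C * Z2 := by
      simp only [C, A, Z2]
      rw [xG_comm checked_F4 (r := 7) (s := 44) (by decide) (by decide) (T := [(33, -1, 1, 1)])
        (by decide +kernel) (by decide) (by decide) 1 s]
      simp [wordG, neg_eq]
    have eDB : D * B = B * D * Z3 := by
      simp only [D, B, Z3]
      rw [xG_comm checked_F4 (r := 1) (s := 47) (by decide) (by decide) (T := [(24, -1, 1, 1)])
        (by decide +kernel) (by decide) (by decide) 1 t]
      simp [wordG, neg_eq]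
    have eCB : C * B = B * C * Z4 := by
      simp only [C, B, Z4]
      rw [xG_comm checked_F4 (r := 1) (s := 44) (by decide) (by decide) (T := [(19, -1, 1, 1), (42, 1, 1, 2)])
        (by decide +kernel) (by decide) (by decide) 1 s]
      simp [wordG, neg_eq]
    have k1 : Commute Z1 B := (commute_even (by decide +kernel) _ _).mul_left (commute_even (by decide +kernel) _ _)
    have k2 : Commute Z2 B := commute_even (by decide +kernel) _ _
    have k3 : Commute Z2 D := commute_even (by decide +kernel) _ _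
    have k4 : Commute Z4 D := (commute_even (by decide +kernel) _ _).mul_left (commute_even (by decide +kernel) _ _)
    have e1 : C * D * (A * B) = A * B * (C * D) * (Z4 * Z2 * Z3 * Z1) := by
      calc C * D * (A * B) = C * (D * A) * B := by group
        _ = C * (A * D * Z1) * B := by rw [eDA]
        _ = (C * A) * D * (Z1 * B) := by group
        _ = (A * C * Z2) * D * (B * Z1) := by rw [eCA, k1.eq]
        _ = A * C * (Z2 * D) * B * Z1 := by group
        _ = A * C * (D * Z2) * B * Z1 := by rw [k3.eq]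
        _ = A * C * D * (Z2 * B) * Z1 := by group
        _ = A * C * D * (B * Z2) * Z1 := by rw [k2.eq]
        _ = A * C * (D * B) * Z2 * Z1 := by group
        _ = A * C * (B * D * Z3) * Z2 * Z1 := by rw [eDB]
        _ = A * (C * B) * D * Z3 * Z2 * Z1 := by group
        _ = A * (B * C * Z4) * D * Z3 * Z2 * Z1 := by rw [eCB]
        _ = A * B * C * (Z4 * D) * Z3 * Z2 * Z1 := by group
        _ = A * B * C * (D * Z4) * Z3 * Z2 * Z1 := by rw [k4.eq]
        _ = A * B * (C * D) * (Z4 * (Z3 * Z2) * Z1) := by group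
        _ = A * B * (C * D) * (Z4 * (Z2 * Z3) * Z1) := by
          rw [(commute_even (r := 24) (s := 33) (by decide +kernel) t s : Commute Z3 Z2).eq]
        _ = _ := by group
    have hAB : A * B ∈ M := by simpa [A, B] using hC3 1
    have hCD : C * D ∈ M := by simpa [C, D, hs2] using hC6 s
    have hZ : Z4 * Z2 * Z3 * Z1 ∈ M := by
      have := mul_mem (inv_mem (mul_mem hAB hCD)) (mul_mem hCD hAB)
      rwa [e1, inv_mul_cancel_left] at this
    have ht2 : t ^ (2 * e) = s ^ 2 := by rw [hs, ← pow_mul, mul_comm]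
    have hC45 : (X 19 s * X 17 (s ^ (2 * e))) * (X 36 t * X 42 (t ^ (2 * e))) ∈ M := mul_mem (hC4 s) (hC5 t)
    rw [hs2, ht2] at hC45
    have j1 : Commute (Z2 * Z3) Z1 :=
      ((commute_even (by decide +kernel) _ _).mul_right (commute_even (by decide +kernel) _ _)).mul_left
        ((commute_even (by decide +kernel) _ _).mul_right (commute_even (by decide +kernel) _ _))
    have c1 : Commute (X 17 t) (X 36 t * X 42 (s ^ 2)) :=
      (commute_even (by decide +kernel) _ _).mul_right (commute_even (by decide +kernel) _ _)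
    have c2 : Commute (X 36 t) (X 42 (s ^ 2)) := commute_even (by decide +kernel) _ _
    have e2 : (X 19 s * X 17 t) * (X 36 t * X 42 (s ^ 2)) = Z4 * Z1 := by
      simp only [Z4, Z1]
      calc X 19 s * X 17 t * (X 36 t * X 42 (s ^ 2)) = X 19 s * (X 17 t * (X 36 t * X 42 (s ^ 2))) := by group
        _ = X 19 s * ((X 36 t * X 42 (s ^ 2)) * X 17 t) := by rw [c1.eq]
        _ = X 19 s * ((X 42 (s ^ 2) * X 36 t) * X 17 t) := by rw [c2.eq]
        _ = _ := by group
    rw [e2] at hC45
    have hres : Z2 * Z3 ∈ M := by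
      have := mul_mem (inv_mem hC45) hZ
      rwa [show (Z4 * Z1)⁻¹ * (Z4 * Z2 * Z3 * Z1) = Z1⁻¹ * ((Z2 * Z3) * Z1) by group, j1.eq,
        inv_mul_cancel_left] at this
    simpa [pairU, wordG, f4PairWord, f4p1, f4p4, Z2, Z3, ← hs] using hres
  refine (Subgroup.closure_le L).2 ?_
  rintro g ⟨w, hw, hg⟩
  rw [exists_wordG checked_F4 hg]
  show wordG checked_F4 w ∈ M
  rcases hw with ⟨t, rfl | rfl⟩ | ⟨t, u, rfl | rfl⟩
  · exact hpair t
  · have := (hword 4 (f4PairWord e f4p1 f4p4 t)
      (by simp only [f4PairWord, List.forall_mem_cons]; exact ⟨by decide, by decide, by simp⟩) (hpair t)).2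
    simp only [f4PairWord, f4p1, f4p4, f4m1, f4m4, List.map_cons, List.map_nil,
      show pif^[4] 33 = 14 by decide +kernel, show pif^[4] 24 = 23 by decide +kernel] at this ⊢
    exact this
  · exact hall t u
  · have := hclass 4 t u
    simp only [b2ClassWord, f4a, f4b, f4ab, f4aab, f4ma, f4mb, f4mab, f4maab, List.map_cons, List.map_nil,
      show pif^[4] 27 = 20 by decide +kernel, show pif^[4] 25 = 22 by decide +kernel,
      show pif^[4] 28 = 19 by decide +kernel, show pif^[4] 30 = 17 by decide +kernel] at this ⊢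
    exact this

end Cfsg.Agent.Lib.TwistGen.LargeRee
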