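import Mathlib
import Cfsg.Prelude.Def_LieTwisted
import Cfsg.Agent.Lib.ChevGeneration.TwoGenSchemes

/-!
Root elements of the orbits of a twisting symmetry, written as products of root elements of a Chevalley group.
-/

set_option autoImplicit false

namespace Cfsg.Agent.Lib.TwistGen

open Cfsg.Lie Cfsg.Agent.Lib.Chev Cfsg.Agent.Lib.ChevGeneration.TwoGen

variable {D : ChevalleyDatum} {C : Cert} {F : Type*} [Field F]

/-- `∏ x_(r_i)(e_i φ^i(t))` for a list of signed roots. -/
def oEl (h : Checked D C) (φ : F →+* F) : List (ℕ × ℤ) → F → GL D.Idx F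
  | [], _ => 1
  | p :: R, t => xU h F p.1 ((p.2 : F) * t) * oEl h φ R (φ t)

/-- The sign picked up by a root element under a word in the fundamental reflections. -/
def sgnW (C : Cert) : List ℕ → ℕ → ℤ
  | [], _ => 1
  | i :: W, r => eta C i (sig C W r) * sgnW C W r

/-- The image of a signed orbit under a word in the fundamental reflections. -/
def mapS (C : Cert) (W : List ℕ) (R : List (ℕ × ℤ)) : List (ℕ × ℤ) :=
  R.map fun p => (sig C W p.1, sgnW C W p.1 * p.2)

/-- Two roots whose root elements commute by the tables. -/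
def commOK (D : ChevalleyDatum) (C : Cert) (r s : ℕ) : Bool :=
  Nat.blt r D.nroots && Nat.blt s D.nroots && (r == s || (s != ng D r && (cTerms C r s).isEmpty))

/-- All roots of the first list commute with those of the second. -/
def crossOK (D : ChevalleyDatum) (C : Cert) (R S : List (ℕ × ℤ)) : Bool :=
  R.all fun a => S.all fun b => commOK D C a.1 b.1

/-- The roots of the list commute with each other. -/
def abOK (D : ChevalleyDatum) (C : Cert) (R : List (ℕ × ℤ)) : Bool := crossOK D C R R

variable (h : Checked D C) (φ : F →+* F)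
include h

theorem commute_of_commOK {r s : ℕ} (hrs : commOK D C r s = true) (t u : F) :
    Commute (xU h F r t) (xU h F s u) := by
  simp only [commOK, Bool.and_eq_true, Nat.blt_eq, Bool.or_eq_true, beq_iff_eq, bne_iff_ne,
    List.isEmpty_iff] at hrs
  obtain ⟨⟨hr, hs⟩, h'⟩ := hrs
  by_cases e : r = s
  · subst e
    show _ = _
    rw [xU_add, xU_add, add_comm]
  · obtain ⟨h2, h3⟩ := h'.resolve_left e
    have e1 := comm_eq h hr hs (fun e' => e e'.symm) h2 t u
    rw [h3] at e1
    simp only [List.map_nil, wordU, List.prod_nil, mul_one] at e1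
    exact e1.symm

theorem oEl_commute_left {S : List (ℕ × ℤ)} {r : ℕ} (hc : S.all (fun b => commOK D C r b.1) = true) (a u : F) :
    Commute (xU h F r a) (oEl h φ S u) := by
  induction S generalizing u with
  | nil => exact Commute.one_right _
  | cons b S ih =>
    simp only [List.all_cons, Bool.and_eq_true] at hc
    exact (commute_of_commOK h hc.1 _ _).mul_right (ih hc.2 _)

theorem oEl_commute {R S : List (ℕ × ℤ)} (hc : crossOK D C R S = true) (t u : F) :
    Commute (oEl h φ R t) (oEl h φ S u) := by
  induction R generalizing t with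
  | nil => exact Commute.one_left _
  | cons a R ih =>
    simp only [crossOK, List.all_cons, Bool.and_eq_true] at hc
    exact (oEl_commute_left h φ hc.1 _ _).mul_left (ih (by simpa [crossOK] using hc.2) _)

theorem oEl_zero (R : List (ℕ × ℤ)) : oEl h φ R 0 = 1 := by
  induction R with
  | nil => rfl
  | cons a R ih => simp [oEl, xU_zero h, ih]

theorem oEl_add {R : List (ℕ × ℤ)} (hc : abOK D C R = true) (t u : F) :
    oEl h φ R t * oEl h φ R u = oEl h φ R (t + u) := by
  induction R generalizing t u with
  | nil => simp [oEl]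
  | cons a R ih =>
    simp only [abOK, crossOK, List.all_cons, Bool.and_eq_true, List.all_eq_true] at hc
    have hab : abOK D C R = true := by
      simp only [abOK, crossOK, List.all_eq_true]
      exact fun x hx y hy => (hc.2 x hx).2 y hy
    have ecomm : Commute (xU h F a.1 ((a.2 : F) * u)) (oEl h φ R (φ t)) :=
      oEl_commute_left h φ (by simpa [List.all_eq_true] using hc.1.2) _ _
    simp only [oEl]
    rw [mul_assoc, ← mul_assoc (oEl h φ R (φ t)), ← ecomm.eq, mul_assoc, ← mul_assoc, xU_add, ← mul_add,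
      ih hab, map_add]

theorem oEl_inv {R : List (ℕ × ℤ)} (hc : abOK D C R = true) (t : F) :
    (oEl h φ R t)⁻¹ = oEl h φ R (-t) := by
  rw [inv_eq_iff_mul_eq_one, oEl_add h φ hc, add_neg_cancel, oEl_zero]

theorem oEl_append (A B : List (ℕ × ℤ)) (t : F) :
    oEl h φ (A ++ B) t = oEl h φ A t * oEl h φ B (φ^[A.length] t) := by
  induction A generalizing t with
  | nil => simp [oEl]
  | cons a A ih =>
    simp only [List.cons_append, oEl, List.length_cons, Function.iterate_succ_apply]
    rw [ih, mul_assoc]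

theorem oEl_map_neg (R : List (ℕ × ℤ)) (t : F) :
    oEl h φ (R.map fun p => (p.1, -p.2)) t = oEl h φ R (-t) := by
  induction R generalizing t with
  | nil => rfl
  | cons a R ih => simp [oEl, ih]

theorem oEl_mem_group (R : List (ℕ × ℤ)) (t : F) : oEl h φ R t ∈ D.group F := by
  induction R generalizing t with
  | nil => exact (D.group F).one_mem
  | cons a R ih => exact (D.group F).mul_mem (xU_mem_group h _ _) (ih _)

/-- The signed roots whose orbit elements lie in `L` for all parameters. -/
def Full (L : Subgroup (GL D.Idx F)) (R : List (ℕ × ℤ)) : Prop := ∀ t : F, oEl h φ R t ∈ L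

theorem full_neg {L : Subgroup (GL D.Idx F)} {R : List (ℕ × ℤ)} (hR : Full h φ L R) :
    Full h φ L (R.map fun p => (p.1, -p.2)) := fun t => by
  rw [oEl_map_neg]; exact hR _

theorem full_rot {L : Subgroup (GL D.Idx F)} {a : ℕ × ℤ} {R : List (ℕ × ℤ)}
    (hφ : ∀ t, φ^[R.length + 1] t = t) (hc : crossOK D C [a] R = true) (hR : Full h φ L (a :: R)) :
    Full h φ L (R ++ [a]) := fun t => by
  have hc' : R.all (fun b => commOK D C a.1 b.1) = true := by simpa [crossOK] using hc
  rw [oEl_append, show oEl h φ [a] (φ^[R.length] t) = xU h F a.1 ((a.2 : F) * φ^[R.length] t) by simp [oEl],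
    ← (oEl_commute_left h φ hc' _ _).eq]
  have := hR (φ^[R.length] t)
  simp only [oEl] at this
  rwa [← Function.iterate_succ_apply' φ R.length t, hφ] at this

theorem sgnW_spec {W : List ℕ} (hW : wordOK D W = true) {r : ℕ} (hr : r < D.nroots) (t : F) :
    nW h F W * xU h F r t = xU h F (sig C W r) ((sgnW C W r : F) * t) * nW h F W := by
  induction W with
  | nil => simp [nW, sig, sgnW]
  | cons i W ih =>
    simp only [wordOK, List.all_cons, Bool.and_eq_true, Nat.blt_eq] at hW
    have hW' : wordOK D W = true := by simp only [wordOK]; exact hW.2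
    have := ih hW'
    simp only [nW, List.map_cons, List.prod_cons, sgnW] at this ⊢
    rw [mul_assoc, this, ← mul_assoc, nU_conj h hW.1 (nW_conj h (F := F) hW' hr).1, mul_assoc]
    congr 2
    push_cast
    ring

theorem nW_oEl {W : List ℕ} (hW : wordOK D W = true) {R : List (ℕ × ℤ)}
    (hR : R.all (fun p => Nat.blt p.1 D.nroots) = true) (t : F) :
    nW h F W * oEl h φ R t = oEl h φ (mapS C W R) t * nW h F W := by
  induction R generalizing t with
  | nil => simp [oEl, mapS]
  | cons a R ih =>
    simp only [List.all_cons, Bool.and_eq_true, Nat.blt_eq] at hR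
    simp only [oEl, mapS, List.map_cons]
    rw [← mul_assoc, sgnW_spec h hW hR.1, mul_assoc, ih hR.2, ← mul_assoc]
    congr 3
    push_cast
    ring

theorem full_mapS {W : List ℕ} (hW : wordOK D W = true) {L : Subgroup (GL D.Idx F)} (hn : nW h F W ∈ L)
    {R : List (ℕ × ℤ)} (hlt : R.all (fun p => Nat.blt p.1 D.nroots) = true) (hR : Full h φ L R) :
    Full h φ L (mapS C W R) := fun t => by
  have := L.mul_mem (L.mul_mem hn (hR t)) (L.inv_mem hn)
  rwa [nW_oEl h φ hW hlt, mul_inv_cancel_right] at this

theorem full_iterate {W : List ℕ} (hW : wordOK D W = true) {L : Subgroup (GL D.Idx F)} (hn : nW h F W ∈ L)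
    {R : List (ℕ × ℤ)} (hlt : R.all (fun p => Nat.blt p.1 D.nroots) = true) (hR : Full h φ L R) (k : ℕ) :
    Full h φ L ((mapS C W)^[k] R) := by
  suffices ∀ k, ((mapS C W)^[k] R).all (fun p => Nat.blt p.1 D.nroots) = true ∧
      Full h φ L ((mapS C W)^[k] R) from (this k).2
  intro k
  induction k with
  | zero => exact ⟨hlt, hR⟩
  | succ k ih =>
    rw [Function.iterate_succ_apply']
    refine ⟨?_, full_mapS h φ hW hn ih.1 ih.2⟩
    simp only [mapS, List.all_map, List.all_eq_true, Function.comp_apply, Nat.blt_eq] at ih ⊢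
    exact fun p hp => (nW_conj h (F := F) hW (ih.1 p hp)).1

/-- Signed roots pairing off into the root `g`. -/
def pairOK (D : ChevalleyDatum) (C : Cert) (g : ℕ) (k : ℤ) : List (ℕ × ℤ) → List (ℕ × ℤ) → Bool
  | [], [] => true
  | a :: R, b :: S =>
    Nat.blt a.1 D.nroots && Nat.blt b.1 D.nroots && b.1 != a.1 && b.1 != ng D a.1 &&
      (match cTerms C a.1 b.1 with
        | [c] => c.1 == g && c.2.2.1 == 1 && c.2.2.2 == 1 && -(c.2.1 * a.2 * b.2) == k
        | _ => false) &&
      crossOK D C [a] S && crossOK D C [b] R && crossOK D C [(g, 1)] R && crossOK D C [(g, 1)] S &&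
      pairOK D C g k R S
  | _, _ => false

/-- `Σ φ^i(t) φ^i(u)` over the first `n` powers. -/
def sumPow (φ : F →+* F) : ℕ → F → F
  | 0, _ => 0
  | n + 1, t => t + sumPow φ n (φ t)

omit h in
/-- Moving one orbit element past another. -/
theorem oEl_pair (h : Checked D C) {g : ℕ} {k : ℤ} : ∀ {R S : List (ℕ × ℤ)}, pairOK D C g k R S = true →
    ∀ t u : F, oEl h φ S u * oEl h φ R t =
      oEl h φ R t * oEl h φ S u * xU h F g ((k : F) * sumPow φ R.length (t * u))
  | [], [], _, t, u => by simp [oEl, sumPow, xU_zero h]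
  | [], _ :: _, hok, _, _ => by simp [pairOK] at hok
  | _ :: _, [], hok, _, _ => by simp [pairOK] at hok
  | a :: R, b :: S, hok, t, u => by
    simp only [pairOK, Bool.and_eq_true, Nat.blt_eq, bne_iff_ne] at hok
    obtain ⟨⟨⟨⟨⟨⟨⟨⟨⟨ha, hb⟩, hne⟩, hng⟩, hct⟩, haS⟩, hbR⟩, hgR⟩, hgS⟩, hrec⟩ := hok
    have ih := oEl_pair h hrec (φ t) (φ u)
    rw [← map_mul] at ih
    have haS' := oEl_commute_left h φ (S := S) (r := a.1) (by simpa [crossOK] using haS)
      ((a.2 : F) * t) (φ u)
    have hbR' := oEl_commute_left h φ (S := R) (r := b.1) (by simpa [crossOK] using hbR)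
      ((b.2 : F) * u) (φ t)
    have hgR' := fun z => oEl_commute_left h φ (S := R) (r := g) (by simpa [crossOK] using hgR) z (φ t)
    have hgS' := fun z => oEl_commute_left h φ (S := S) (r := g) (by simpa [crossOK] using hgS) z (φ u)
    have e1 := comm_eq h ha hb hne hng ((a.2 : F) * t) ((b.2 : F) * u)
    split at hct
    swap
    · simp at hct
    next c hc =>
    simp only [Bool.and_eq_true, beq_iff_eq] at hct
    obtain ⟨⟨⟨hcg, hc1⟩, hc2⟩, hck⟩ := hct
    simp only [hc, List.map_cons, List.map_nil, wordU, List.prod_cons, List.prod_nil, mul_one, hcg, hc1, hc2,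
      pow_one] at e1
    have e2 : (c.2.1 : F) * -((a.2 : F) * t) * ((b.2 : F) * u) = (k : F) * (t * u) := by
      rw [← hck]; push_cast; ring
    rw [e2] at e1
    simp only [oEl, List.length_cons, sumPow]
    set A := xU h F a.1 ((a.2 : F) * t)
    set B := xU h F b.1 ((b.2 : F) * u)
    set R' := oEl h φ R (φ t)
    set S' := oEl h φ S (φ u)
    set Z := xU h F g ((k : F) * (t * u))
    set Z' := xU h F g ((k : F) * sumPow φ R.length (φ (t * u)))
    calc B * S' * (A * R') = B * (S' * A) * R' := by group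
      _ = B * (A * S') * R' := by rw [haS'.eq]
      _ = (B * A) * (S' * R') := by group
      _ = (A * B * Z) * (R' * S' * Z') := by rw [e1, ih]
      _ = A * B * (Z * R') * S' * Z' := by group
      _ = A * B * (R' * Z) * S' * Z' := by rw [(hgR' _).eq]
      _ = A * (B * R') * (Z * S') * Z' := by group
      _ = A * (R' * B) * (S' * Z) * Z' := by rw [hbR'.eq, (hgS' _).eq]
      _ = A * R' * (B * S') * (Z * Z') := by group
      _ = _ := by rw [xU_add, ← mul_add]

omit h in
theorem sumPow_fixed_mul (φ : F →+* F) {l : F} (hl : φ l = l) :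
    ∀ (n : ℕ) (t : F), sumPow φ n (l * t) = l * sumPow φ n t
  | 0, t => by simp [sumPow]
  | n + 1, t => by simp [sumPow, map_mul, hl, sumPow_fixed_mul φ hl n, mul_add]

/-- Two orbits pairing off into a root fixed by the symmetry give its whole fixed root group. -/
theorem fixed_of_pair {L : Subgroup (GL D.Idx F)} {g : ℕ} {k : ℤ} (hk : k = 1 ∨ k = -1) {R S : List (ℕ × ℤ)}
    (hok : pairOK D C g k R S = true) (hR : Full h φ L R) (hS : Full h φ L S) {t0 : F}
    (h0 : sumPow φ R.length t0 ≠ 0) (h0φ : φ (sumPow φ R.length t0) = sumPow φ R.length t0)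
    {z : F} (hz : φ z = z) : xU h F g z ∈ L := by
  set y := sumPow φ R.length t0
  have hkF : (k : F) * (k : F) = 1 := by rcases hk with rfl | rfl <;> simp
  set l := (k : F) * z / y with hl
  have hlφ : φ l = l := by rw [hl, map_div₀, map_mul, map_intCast, hz, h0φ]
  have e := oEl_pair φ h hok (l * t0) 1
  rw [mul_one, sumPow_fixed_mul φ hlφ] at e
  have : xU h F g ((k : F) * (l * y)) ∈ L := by
    have hmem : (oEl h φ R (l * t0) * oEl h φ S 1)⁻¹ * (oEl h φ S 1 * oEl h φ R (l * t0)) ∈ L :=
      L.mul_mem (L.inv_mem (L.mul_mem (hR _) (hS _))) (L.mul_mem (hS _) (hR _))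
    rwa [e, inv_mul_cancel_left] at hmem
  rwa [hl, div_mul_cancel₀ _ h0, ← mul_assoc, hkF, one_mul] at this

end Cfsg.Agent.Lib.TwistGen
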