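import Cfsg.Agent.Lib.TwistGen.Orbit

/-!
Torus elements of a twisting orbit and the orbit root group generated by a torus element and `x n`.
-/

set_option autoImplicit false

namespace Cfsg.Agent.Lib.TwistGen

open Cfsg.Lie Cfsg.Agent.Lib.Chev Cfsg.Agent.Lib.ChevGeneration.TwoGen

variable {D : ChevalleyDatum} {C : Cert} {F : Type*} [Field F]

/-- `∏ h_(v_i)(φ^i(c))`. -/
def tor (h : Checked D C) (φ : F →+* F) : List ℕ → Fˣ → GL D.Idx F
  | [], _ => 1
  | v :: T, c => hU h v c * tor h φ T (Units.map φ.toMonoidHom c)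

/-- The character of a root on `tor`. -/
def chi (D : ChevalleyDatum) (φ : F →+* F) : List ℕ → Fˣ → ℕ → Fˣ
  | [], _, _ => 1
  | v :: T, c, s => c ^ D.pairing v s * chi D φ T (Units.map φ.toMonoidHom c) s

/-- `∏ n_(r_i)(φ^i(t))`. -/
def nA (h : Checked D C) (φ : F →+* F) : List ℕ → F → GL D.Idx F
  | [], _ => 1
  | v :: T, t => wordU h (D.nWord v t) * nA h φ T (φ t)

/-- The roots of `T`, with positive signs. -/
def posL (T : List ℕ) : List (ℕ × ℤ) := T.map fun v => (v, 1)

/-- The negatives of the roots of `T`. -/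
def negL (D : ChevalleyDatum) (T : List ℕ) : List (ℕ × ℤ) := T.map fun v => (ng D v, 1)

/-- The roots of the list are orthogonal enough. -/
def orthOK (D : ChevalleyDatum) (C : Cert) : List ℕ → Bool
  | [] => true
  | v :: T => Nat.blt v D.nroots && orthOK D C T &&
      crossOK D C (posL [v]) (posL T) && crossOK D C (posL [v]) (negL D T) &&
      crossOK D C (negL D [v]) (posL T) && crossOK D C (negL D [v]) (negL D T)

variable (h : Rooted D C) (φ : F →+* F)
include h

theorem oEl_posL_cons (v : ℕ) (T : List ℕ) (t : F) :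
    oEl h.toChecked φ (posL (v :: T)) t = xU h.toChecked F v t * oEl h.toChecked φ (posL T) (φ t) := by
  simp [posL, oEl]

theorem oEl_negL_cons (v : ℕ) (T : List ℕ) (t : F) :
    oEl h.toChecked φ (negL D (v :: T)) t =
      xU h.toChecked F (ng D v) t * oEl h.toChecked φ (negL D T) (φ t) := by
  simp [negL, oEl]

/-- `n_A(t)` is built from three orbit elements. -/
theorem nA_eq {T : List ℕ} (hT : orthOK D C T = true) (t : F) :
    nA h.toChecked φ T t = oEl h.toChecked φ (posL T) t * oEl h.toChecked φ (negL D T) (-t⁻¹) *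
      oEl h.toChecked φ (posL T) t := by
  induction T generalizing t with
  | nil => simp [nA, posL, negL, oEl]
  | cons v T ih =>
    simp only [orthOK, Bool.and_eq_true, Nat.blt_eq] at hT
    obtain ⟨⟨⟨⟨⟨hv, hT⟩, hpp⟩, hpn⟩, hnp⟩, -⟩ := hT
    rw [nA, ih hT, oEl_posL_cons h, oEl_negL_cons h, map_neg, map_inv₀,
      show wordU h.toChecked (D.nWord v t) = xU h.toChecked F v t * xU h.toChecked F (ng D v) (-t⁻¹) *
        xU h.toChecked F v t by
      simp [wordU, ChevalleyDatum.nWord, h.toChecked.neg_eq hv, mul_assoc]]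
    set x := xU h.toChecked F v t
    set y := xU h.toChecked F (ng D v) (-t⁻¹)
    set X := oEl h.toChecked φ (posL T) (φ t)
    set Y := oEl h.toChecked φ (negL D T) (-(φ t)⁻¹)
    have c1 : Commute y X := oEl_commute_left h.toChecked φ (by simpa [crossOK, negL] using hnp) _ _
    have c2 : Commute x X := oEl_commute_left h.toChecked φ (by simpa [crossOK, posL] using hpp) _ _
    have c3 : Commute x Y := oEl_commute_left h.toChecked φ (by simpa [crossOK, posL] using hpn) _ _
    calc x * y * x * (X * Y * X) = x * y * (x * X) * Y * X := by group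
      _ = x * y * (X * x) * Y * X := by rw [c2.eq]
      _ = x * (y * X) * (x * Y) * X := by group
      _ = x * (X * y) * (Y * x) * X := by rw [c1.eq, c3.eq]
      _ = _ := by group

omit h in
theorem map_negOne : Units.map φ.toMonoidHom (-1 : Fˣ) = -1 := by ext; simp

/-- `tor` is a quotient of two `n_A`. -/
theorem tor_eq {T : List ℕ} (hT : orthOK D C T = true) (c : Fˣ) :
    tor h.toChecked φ T c = nA h.toChecked φ T (c : F) * nA h.toChecked φ T (-1) := by
  induction T generalizing c with
  | nil => simp [tor, nA]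
  | cons v T ih =>
    have hT' := hT
    simp only [orthOK, Bool.and_eq_true, Nat.blt_eq] at hT
    obtain ⟨⟨⟨⟨⟨hv, hTT⟩, hpp⟩, hpn⟩, hnp⟩, hnn⟩ := hT
    rw [tor, ih hTT, nA, nA, map_neg, map_one,
      show hU h.toChecked v c = wordU h.toChecked (D.nWord v (c : F)) * wordU h.toChecked (D.nWord v (-1)) by
        simp [hU, ChevalleyDatum.hWord, wordU]]
    have key : ∀ (a b : F), Commute (wordU h.toChecked (D.nWord v a)) (nA h.toChecked φ T b) := by
      intro a b
      rw [nA_eq h φ hTT]
      have l1 : ∀ z w, Commute (xU h.toChecked F v z) (oEl h.toChecked φ (posL T) w) := fun z w =>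
        oEl_commute_left h.toChecked φ (by simpa [crossOK, posL] using hpp) _ _
      have l2 : ∀ z w, Commute (xU h.toChecked F v z) (oEl h.toChecked φ (negL D T) w) := fun z w =>
        oEl_commute_left h.toChecked φ (by simpa [crossOK, posL] using hpn) _ _
      have l3 : ∀ z w, Commute (xU h.toChecked F (ng D v) z) (oEl h.toChecked φ (posL T) w) := fun z w =>
        oEl_commute_left h.toChecked φ (by simpa [crossOK, negL] using hnp) _ _
      have l4 : ∀ z w, Commute (xU h.toChecked F (ng D v) z) (oEl h.toChecked φ (negL D T) w) := fun z w =>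
        oEl_commute_left h.toChecked φ (by simpa [crossOK, negL] using hnn) _ _
      simp only [ChevalleyDatum.nWord, wordU, List.map_cons, List.map_nil, List.prod_cons, List.prod_nil,
        mul_one, h.toChecked.neg_eq hv]
      exact ((l1 _ _).mul_left ((l3 _ _).mul_left (l1 _ _))).mul_right
        ((l2 _ _).mul_left ((l4 _ _).mul_left (l2 _ _))) |>.mul_right
        ((l1 _ _).mul_left ((l3 _ _).mul_left (l1 _ _)))
    set Pc := wordU h.toChecked (D.nWord v (c : F))
    set Pm := wordU h.toChecked (D.nWord v (-1 : F))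
    have := key (-1) (((Units.map φ.toMonoidHom c) : Fˣ) : F)
    calc Pc * Pm * (nA h.toChecked φ T ((Units.map φ.toMonoidHom c : Fˣ) : F) * nA h.toChecked φ T (-1))
        = Pc * (Pm * nA h.toChecked φ T ((Units.map φ.toMonoidHom c : Fˣ) : F)) *
            nA h.toChecked φ T (-1) := by group
      _ = Pc * (nA h.toChecked φ T ((Units.map φ.toMonoidHom c : Fˣ) : F) * Pm) *
            nA h.toChecked φ T (-1) := by rw [this.eq]
      _ = _ := by simp [mul_assoc]

theorem tor_x {T : List ℕ} (hT : T.all (fun v => Nat.blt v D.nroots) = true) {s : ℕ} (hs : s < D.nroots)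
    (c : Fˣ) (u : F) :
    tor h.toChecked φ T c * xU h.toChecked F s u =
      xU h.toChecked F s ((chi D φ T c s : F) * u) * tor h.toChecked φ T c := by
  induction T generalizing c with
  | nil => simp [tor, chi]
  | cons v T ih =>
    simp only [List.all_cons, Bool.and_eq_true, Nat.blt_eq] at hT
    rw [tor, mul_assoc, ih hT.2, ← mul_assoc, hU_x h hT.1 hs, mul_assoc]
    simp [chi, mul_assoc]

theorem tor_oEl {T : List ℕ} (hT : T.all (fun v => Nat.blt v D.nroots) = true) (c : Fˣ) :
    ∀ (R : List (ℕ × ℤ)) (_ : R.all (fun p => Nat.blt p.1 D.nroots) = true) (a : F)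
      (_ : ∀ i, ∀ hi : i < R.length, (chi D φ T c (R[i]).1 : F) = φ^[i] a) (u : F),
      tor h.toChecked φ T c * oEl h.toChecked φ R u = oEl h.toChecked φ R (a * u) * tor h.toChecked φ T c
  | [], _, _, _, u => by simp [oEl]
  | p :: R, hR, a, hchi, u => by
    simp only [List.all_cons, Bool.and_eq_true, Nat.blt_eq] at hR
    have h0 : (chi D φ T c p.1 : F) = a := hchi 0 (Nat.succ_pos _)
    simp only [oEl]
    rw [← mul_assoc, tor_x h φ hT hR.1, mul_assoc,
      tor_oEl hT c R hR.2 (φ a) (fun i hi => by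
        have := hchi (i + 1) (by simpa using hi)
        simpa using this) (φ u), ← mul_assoc, h0, map_mul]
    congr 3
    ring

theorem hU_tor_comm {v : ℕ} (hv : v < D.nroots) {T : List ℕ} (hT : T.all (fun v => Nat.blt v D.nroots) = true)
    (a c : Fˣ) : Commute (hU h.toChecked v a) (tor h.toChecked φ T c) := by
  induction T generalizing c with
  | nil => exact Commute.one_right _
  | cons w T ih =>
    simp only [List.all_cons, Bool.and_eq_true, Nat.blt_eq] at hT
    exact (hU_comm h hv hT.1 a c).mul_right (ih hT.2 _)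

theorem tor_comm {S T : List ℕ} (hS : S.all (fun v => Nat.blt v D.nroots) = true)
    (hT : T.all (fun v => Nat.blt v D.nroots) = true) (a c : Fˣ) :
    Commute (tor h.toChecked φ S a) (tor h.toChecked φ T c) := by
  induction S generalizing a with
  | nil => exact Commute.one_left _
  | cons w S ih =>
    simp only [List.all_cons, Bool.and_eq_true, Nat.blt_eq] at hS
    exact (hU_tor_comm h φ hS.1 hT a c).mul_left (ih hS.2 _)

theorem nW_tor {W : List ℕ} (hW : wordOK D W = true) {T : List ℕ}
    (hT : T.all (fun v => Nat.blt v D.nroots) = true) (c : Fˣ) :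
    nW h.toChecked F W * tor h.toChecked φ T c = tor h.toChecked φ (T.map (sig C W)) c * nW h.toChecked F W := by
  induction T generalizing c with
  | nil => simp [tor]
  | cons v T ih =>
    simp only [List.all_cons, Bool.and_eq_true, Nat.blt_eq] at hT
    rw [tor, List.map_cons, tor, ← mul_assoc, nW_hU h hW hT.1, mul_assoc, ih hT.2, mul_assoc]

omit h in
/-- An additive subgroup closed under the powers of an element of large order is everything. -/
theorem addSubgroup_eq_top [Finite F] (S : AddSubgroup F) {a s : F} (hs : s ≠ 0) (hsS : s ∈ S)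
    (hmul : ∀ x ∈ S, a * x ∈ S) (ha : Nat.card F ≤ 2 * orderOf a + 1) : S = ⊤ := by
  haveI : Fintype F := Fintype.ofFinite F
  classical
  have hpow : ∀ k : ℕ, a ^ k * s ∈ S := by
    intro k
    induction k with
    | zero => simpa using hsS
    | succ k ih => rw [pow_succ', mul_assoc]; exact hmul _ ih
  have hpos : 0 < orderOf a := by
    have : 1 < Nat.card F := Finite.one_lt_card
    omega
  have hane : a ≠ 0 := fun e => by
    subst e
    rcases (orderOf_pos_iff.1 hpos).exists_pow_eq_one with ⟨n, hn, e1⟩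
    rw [zero_pow hn.ne'] at e1
    exact zero_ne_one e1
  let f : Option (Fin (orderOf a)) → S := fun o => o.elim 0 fun k => ⟨a ^ (k : ℕ) * s, hpow k⟩
  have hf : Function.Injective f := by
    rintro (_ | i) (_ | j) e
    · rfl
    · exact absurd (congrArg Subtype.val e).symm (mul_ne_zero (pow_ne_zero _ hane) hs)
    · exact absurd (congrArg Subtype.val e) (mul_ne_zero (pow_ne_zero _ hane) hs)
    · exact congrArg some (Fin.ext (pow_injOn_Iio_orderOf i.2 j.2
        (mul_right_cancel₀ hs (congrArg Subtype.val e))))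
  have hle := Nat.card_le_card_of_injective f hf
  rw [Nat.card_eq_fintype_card (α := Option _), Fintype.card_option, Fintype.card_fin] at hle
  have hdvd := S.card_addSubgroup_dvd_card
  obtain ⟨d, hd⟩ := hdvd
  refine AddSubgroup.eq_top_of_card_eq S ?_
  rcases d with _ | _ | d
  · have : 1 < Nat.card F := Finite.one_lt_card
    simp at hd
  · simpa using hd.symm
  · nlinarith

/-- A torus element and `x n` give the root group of an orbit and `n`. -/
theorem seed [Finite F] {W : List ℕ} (hW : wordOK D W = true) {T : List ℕ}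
    (hT : T.all (fun v => Nat.blt v D.nroots) = true)
    (hWT : (T.map (sig C W)).all (fun v => Nat.blt v D.nroots) = true)
    (hab : abOK D C (posL T) = true) (c : Fˣ) {a0 a1 : F}
    (h0 : ∀ i, ∀ hi : i < (posL T).length, (chi D φ T c ((posL T)[i]).1 : F) = φ^[i] a0)
    (h1 : ∀ i, ∀ hi : i < (posL T).length, (chi D φ (T.map (sig C W)) c ((posL T)[i]).1 : F) = φ^[i] a1)
    (ha0 : a0 ≠ 1) (ha1 : a1 ≠ 1) (hord : Nat.card F ≤ 2 * orderOf a0 + 1)
    {L : Subgroup (GL D.Idx F)} (hh : tor h.toChecked φ T c ∈ L)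
    (hb : oEl h.toChecked φ (posL T) 1 * nW h.toChecked F W ∈ L) :
    Full h.toChecked φ L (posL T) ∧ nW h.toChecked F W ∈ L := by
  have hc := h.toChecked
  have hlt : (posL T).all (fun p => Nat.blt p.1 D.nroots) = true := by
    simpa [posL, List.all_eq_true] using hT
  set g := tor hc φ T c
  set g' := tor hc φ (T.map (sig C W)) c
  have hg' : g' = nW hc F W * g * (nW hc F W)⁻¹ := by
    rw [eq_mul_inv_iff_mul_eq, nW_tor h φ hW hT]
  set x := oEl hc φ (posL T) 1
  have hconj : x * g' * x⁻¹ ∈ L := by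
    have := L.mul_mem (L.mul_mem hb hh) (L.inv_mem hb)
    rwa [show x * nW hc F W * g * (x * nW hc F W)⁻¹ = x * (nW hc F W * g * (nW hc F W)⁻¹) * x⁻¹ by group,
      ← hg'] at this
  have hscale : ∀ u, g * oEl hc φ (posL T) u = oEl hc φ (posL T) (a0 * u) * g :=
    tor_oEl h φ hT c _ hlt a0 h0
  have hscale' : ∀ u, g' * oEl hc φ (posL T) u = oEl hc φ (posL T) (a1 * u) * g' :=
    tor_oEl h φ hWT c _ hlt a1 h1
  set s := (a0 - 1) * (1 - a1)
  have hs : oEl hc φ (posL T) s ∈ L := by
    have hmem := L.mul_mem (L.mul_mem (L.mul_mem hh hconj) (L.inv_mem hh)) (L.inv_mem hconj)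
    have e1 : g * x * g⁻¹ = oEl hc φ (posL T) (a0 * 1) := by rw [hscale, mul_inv_cancel_right]
    have e2 : g' * (g * x⁻¹ * g⁻¹) * g'⁻¹ = oEl hc φ (posL T) (a1 * (a0 * -1)) := by
      rw [oEl_inv hc φ hab, hscale, mul_inv_cancel_right, hscale', mul_inv_cancel_right]
    have e3 : g' * x * g'⁻¹ = oEl hc φ (posL T) (a1 * 1) := by rw [hscale', mul_inv_cancel_right]
    have hc' : g * g' = g' * g := (tor_comm h φ hT hWT c c).eq
    have e : g * (x * g' * x⁻¹) * g⁻¹ * (x * g' * x⁻¹)⁻¹ =
        (g * x * g⁻¹) * (g' * (g * x⁻¹ * g⁻¹) * g'⁻¹) * (g' * x * g'⁻¹) * x⁻¹ := by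
      calc g * (x * g' * x⁻¹) * g⁻¹ * (x * g' * x⁻¹)⁻¹
          = g * x * g⁻¹ * (g * g') * x⁻¹ * g⁻¹ * x * g'⁻¹ * x⁻¹ := by group
        _ = g * x * g⁻¹ * (g' * g) * x⁻¹ * g⁻¹ * x * g'⁻¹ * x⁻¹ := by rw [hc']
        _ = _ := by group
    rw [e, e1, e2, e3, oEl_inv hc φ hab, oEl_add hc φ hab, oEl_add hc φ hab, oEl_add hc φ hab] at hmem
    convert hmem using 2
    ring
  let S : AddSubgroup F :=
    { carrier := {u | oEl hc φ (posL T) u ∈ L}
      zero_mem' := by simp [oEl_zero hc, L.one_mem]
      add_mem' := fun {u w} hu hw => by simpa [oEl_add hc φ hab] using L.mul_mem hu hw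
      neg_mem' := fun {u} hu => by simpa [oEl_inv hc φ hab] using L.inv_mem hu }
  have hS : S = ⊤ := by
    refine addSubgroup_eq_top S (a := a0) (s := s) ?_ hs (fun u hu => ?_) hord
    · exact mul_ne_zero (sub_ne_zero.2 ha0) (sub_ne_zero.2 ha1.symm)
    · have := L.mul_mem (L.mul_mem hh hu) (L.inv_mem hh)
      rwa [hscale, mul_inv_cancel_right] at this
  have hfull : Full hc φ L (posL T) := fun t => show t ∈ S by rw [hS]; trivial
  refine ⟨hfull, ?_⟩
  have := L.mul_mem (L.inv_mem (hfull 1)) hb
  rwa [inv_mul_cancel_left] at this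

end Cfsg.Agent.Lib.TwistGen
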